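import Groth.Agent.Lib.Biduality.ChartBase
import Groth.Prelude.Def_DualSch

/-!
# Duality with respect to a dualizing complex on a locally Noetherian scheme
-/

set_option autoImplicit false
set_option linter.style.haveILetI false
set_option linter.unusedSectionVars false

universe u

open CategoryTheory Limits AlgebraicGeometry HomologicalComplex

attribute [local instance] HasDerivedCategory.standard

noncomputable section

namespace Groth.Agent.Lib.Biduality.Global

open Groth.Agent.Lib Groth.Agent.Lib.DerivedOX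
open DualHom DualQis DualBidual TrivCof LeftRes Invariance
open Groth.Agent.Lib.Perfect Groth.Agent.Lib.Perfect.Basic

variable {X : Scheme.{u}} [IsLocallyNoetherian X]

theorem isCoh_restrict {U : Scheme.{u}} (j : U ⟶ X) [IsOpenImmersion j] {M : X.Modules}
    (hM : Coh.IsCoh M) : Coh.IsCoh (M.restrict j) := by
  haveI := isLocallyNoetherian_of_isOpenImmersion j
  haveI := hM.1
  haveI : Coh.IsQCoh (M.restrict j) := inferInstance
  refine CohBasics.Closure.isCoh_of_finite_sections fun V hV => ?_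
  exact (TensorMod.TensorQCoh.finite_restrict_iff j M V).2
    (CohBasics.Closure.finite_sections hM (hV.image_of_isOpenImmersion j))

/-- Coherence of the cohomology of `Hom(P, J)`. -/
theorem isCoh_homology {J : CochainComplex X.Modules ℤ} [J.IsKInjective] (hJ : InjTerms J)
    (hc : ∀ x : X, ∃ c : Main.GoodChart J x, ∀ i, Coh.IsCoh (c.J₀.homology i))
    (P : CochainComplex X.Modules ℤ) (hP : ∀ i, Coh.IsCoh (P.homology i)) (n : ℤ) :
    Coh.IsCoh (((Hc P).obj J).homology n) :=
  Perfect.Coherent.isCoh_of_cover fun x => by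
    obtain ⟨c, hc⟩ := hc x
    haveI := isLocallyNoetherian_of_isOpenImmersion c.j
    obtain ⟨y, hy⟩ := c.mem
    refine ⟨c.U, c.j, inferInstance, y, hy, ?_⟩
    obtain ⟨e⟩ := Chart.nonempty_homology_iso c.j J hJ c.inj c.u P n
    refine CohBasics.Closure.isCoh_of_iso
      ((((Hc P).obj J).sc n).mapHomologyIso (Scheme.Modules.restrictFunctor c.j)) ?_
    refine CohBasics.Closure.isCoh_of_iso e.symm
      (SchColim29.RHomFid.isCoh_homology_Hc c.inj c.a c.b hc _ (fun i => ?_) n)
    exact CohBasics.Closure.isCoh_of_iso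
      ((P.sc i).mapHomologyIso (Scheme.Modules.restrictFunctor c.j)).symm
      (isCoh_restrict c.j (hP i))

variable [∀ (U : Scheme.{u}) (j : U ⟶ X) [IsOpenImmersion j],
    PreservesFiniteLimits (Scheme.Modules.restrictFunctor j)]
  [∀ (R : CommRingCat.{u}), PreservesFiniteLimits (tilde.functor R)]

/-- A K-injective representative of a dualizing complex has good charts. -/
theorem exists_goodChart {K : DCoh.D X} (hK : Dual2.IsDualizingSch X K)
    (J : CochainComplex X.Modules ℤ) [J.IsKInjective] (hJ : InjTerms J)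
    (e : DerivedCategory.Q.obj J ≅ K) (x : X) :
    ∃ c : Main.GoodChart J x, ∀ i, Coh.IsCoh (c.J₀.homology i) := by
  obtain ⟨V, hV, hxV, -⟩ := exists_isAffineOpen_mem_and_subset (show x ∈ (⊤ : X.Opens) from trivial)
  haveI : IsNoetherianRing Γ(X, V) := IsLocallyNoetherian.component_noetherian ⟨V, hV⟩
  obtain ⟨ω, hω, ⟨eω⟩⟩ := hK Γ(X, V) hV.fromSpec
  exact ChartBase.exists_goodChart hV.fromSpec J hJ hω
    ((RDQ hV.fromSpec J).symm ≪≫ (RD hV.fromSpec).mapIso e ≪≫ eω) (by rwa [hV.opensRange_fromSpec])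

/-- Coherence and biduality. -/
theorem duality {K : DCoh.D X} (hK : Dual2.IsDualizingSch X K) (L : CochainComplex X.Modules ℤ)
    (hL : ∀ i : ℤ, Coh.IsCoh (DCoh.HD (DCoh.toD X L) i)) [DCoh.HasLTensorCx L] [DCoh.HasRSheafHom L] :
    (∀ i : ℤ, Coh.IsCoh (DCoh.HD ((DCoh.RSheafHom L).obj K) i)) ∧
      ∀ (M : CochainComplex X.Modules ℤ) [DCoh.HasLTensorCx M] [DCoh.HasRSheafHom M],
        Nonempty (DCoh.toD X M ≅ (DCoh.RSheafHom L).obj K) →
          Nonempty ((DCoh.RSheafHom M).obj K ≅ DCoh.toD X L) := by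
  let K₀ := DerivedCategory.Q.objPreimage K
  obtain ⟨J, i₀, h₀, q₀, -, hJ⟩ := DerCat.KInjExists.exists_kInjective_resolution K₀
  haveI := h₀
  haveI := q₀
  let eJ : DerivedCategory.Q.obj J ≅ K :=
    (asIso (DerivedCategory.Q.map i₀)).symm ≪≫ DerivedCategory.Q.objObjPreimageIso K
  have hc := exists_goodChart hK J hJ eJ
  let P := (KFlat.res X).obj L
  let r : P ⟶ L := (KFlat.aug X).app L
  haveI : QuasiIso r := KFlat.quasiIso_aug L
  have hP : ∀ i, Coh.IsCoh (P.homology i) := fun i =>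
    CohBasics.Closure.isCoh_of_iso
      (isoOfQuasiIsoAt r i ≪≫ ((DerivedCategory.homologyFunctorFactors X.Modules i).app L).symm).symm
      (hL i)
  obtain ⟨eL⟩ := DualCompare.nonempty_RSheafHom_iso (K := L) (KFlat.isKFlat_res L) r hJ
  let θ : DerivedCategory.Q.obj ((Hc P).obj J) ≅ (DCoh.RSheafHom L).obj K :=
    eL ≪≫ (DCoh.RSheafHom L).mapIso eJ
  refine ⟨fun i => CohBasics.Closure.isCoh_of_iso
      (((DerivedCategory.homologyFunctorFactors X.Modules i).app _).symm ≪≫
        (DerivedCategory.homologyFunctor X.Modules i).mapIso θ) (isCoh_homology hJ hc P hP i),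
    fun M _ _ ⟨e⟩ => ?_⟩
  let D := (KFlat.res X).obj M
  let rM : D ⟶ M := (KFlat.aug X).app M
  haveI : QuasiIso rM := KFlat.quasiIso_aug M
  obtain ⟨eM⟩ := DualCompare.nonempty_RSheafHom_iso (K := M) (KFlat.isKFlat_res M) rM hJ
  obtain ⟨B, s, g, hs, hg⟩ := ChartBase.exists_roof
    (asIso (DerivedCategory.Q.map rM) ≪≫ e ≪≫ θ.symm)
  haveI := quasiIso_pre hJ s
  haveI := quasiIso_pre hJ g
  haveI := Main.quasiIso_bd hJ (fun x => ⟨(hc x).choose⟩) P hP
  exact ⟨((DCoh.RSheafHom M).mapIso eJ).symm ≪≫ eM.symm ≪≫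
    asIso (DerivedCategory.Q.map ((pre s).app J)) ≪≫
    (asIso (DerivedCategory.Q.map ((pre g).app J))).symm ≪≫
    (asIso (DerivedCategory.Q.map (bd J P))).symm ≪≫ asIso (DerivedCategory.Q.map r)⟩

end Groth.Agent.Lib.Biduality.Global
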