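import Groth.Agent.Lib.SchColim29.RHomFid

/-!
# Quasi-coherence of internal Homs out of complexes with coherent cohomology
-/

set_option autoImplicit false
set_option linter.style.haveILetI false

universe u

open CategoryTheory CategoryTheory.Limits AlgebraicGeometry HomologicalComplex

attribute [local instance] HasDerivedCategory.standard

namespace Groth.Agent.Lib.Biduality.QcHc

open Groth.Agent.Lib Groth.Agent.Lib.DerivedOX Groth.Agent.Lib.SchColim29
open DualHom DualQis DualExact TrivCof LeftRes Groth.Agent.Lib.SchColim29.RHomLocal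
open Groth.Agent.Lib.SchColim29.RHomFid
open Groth.Agent.Lib.Perfect Groth.Agent.Lib.Perfect.Basic Groth.Agent.Lib.Perfect.PseudoCoh

variable {X : Scheme.{u}} {J : CochainComplex X.Modules ℤ} [J.IsKInjective]

/-- Quasi-coherence of the cohomology of `Hom(P, J)` for `P` bounded above with coherent cohomology. -/
theorem isQCoh_homology_Hc_of_isLE [IsLocallyNoetherian X] (hJ : InjTerms J) (a : ℤ)
    [J.IsStrictlyGE a] (hJc : ∀ i, (J.homology i).IsQuasicoherent) (P : CochainComplex X.Modules ℤ) (b : ℤ)
    [P.IsLE b] (hP : ∀ i, Coh.IsCoh (P.homology i)) (n : ℤ) :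
    (((Hc P).obj J).homology n).IsQuasicoherent :=
  Perfect.QCohD.isQCoh_of_cover fun x => by
    let F := DerivedCategory.homologyFunctorFactors X.Modules
    haveI : (DerivedCategory.Q.obj P).IsLE b := (DerivedCategory.isLE_Q_obj_iff P b).2 inferInstance
    obtain ⟨V, hxV, h⟩ := exists_of_pcAt hJ a
      (Perfect.PCCoh.pcAt_of_coh (a - n - 1) (b + 1 - (a - n - 1)).toNat (DerivedCategory.Q.obj P) b
        (by omega) inferInstance
        (fun i _ _ => CohBasics.Closure.isCoh_of_iso ((F i).app P).symm (hP i)) x)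
    exact ⟨V, V.ι, inferInstance, ⟨x, hxV⟩, rfl,
      h (qcCls X) (fun k =>
        haveI : (J.homology k).IsQuasicoherent := hJc k
        inferInstanceAs (((J.homology k).restrict V.ι).IsQuasicoherent)) n (by omega)⟩

/-- Quasi-coherence of the cohomology of `Hom(P, J)` for `P` with coherent cohomology and `J` bounded. -/
theorem isQCoh_homology_Hc [IsLocallyNoetherian X] (hJ : InjTerms J) (a b : ℤ) [J.IsStrictlyGE a]
    [J.IsStrictlyLE b] (hJc : ∀ i, (J.homology i).IsQuasicoherent) (P : CochainComplex X.Modules ℤ)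
    (hP : ∀ i, Coh.IsCoh (P.homology i)) (n : ℤ) :
    (((Hc P).obj J).homology n).IsQuasicoherent := by
  let t : ℤ := b - n + 2
  let ι := P.ιTruncLE t
  let C := CochainComplex.mappingCone ι
  let P' := (P.truncLE t)⟦(1 : ℤ)⟧
  have hC : ∀ k, b < k + t → IsZero (((Hc C).obj J).homology k) := fun k hk => by
    haveI : C.IsGE t := (C.isGE_iff t).2 fun i hi => by
      haveI := P.quasiIsoAt_ιTruncLE t i (by omega)
      haveI := P.quasiIsoAt_ιTruncLE t (i + 1) (by omega)
      exact PCoh.Cone.exactAt_of_epi_of_mono ι i (i + 1) rfl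
    exact isZero_homology_Hc_of_isGE hJ C t b k hk
  have hP' : ∀ i, IsZero (P'.homology i) ∨ Nonempty (P'.homology i ≅ P.homology (i + 1)) := fun i => by
    let e : P'.homology i ≅ (P.truncLE t).homology (i + 1) :=
      ((HomologicalComplex.homologyFunctor X.Modules (ComplexShape.up ℤ) 0).shiftIso (1 : ℤ) i (i + 1)
        (add_comm 1 i)).app (P.truncLE t)
    by_cases hi : i + 1 ≤ t
    · haveI := P.quasiIsoAt_ιTruncLE t (i + 1) hi
      exact Or.inr ⟨e ≪≫ isoOfQuasiIsoAt (P.ιTruncLE t) (i + 1)⟩
    · exact Or.inl (IsZero.of_iso (HomologicalComplex.ExactAt.isZero_homology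
        (HomologicalComplex.ExactAt.of_isZero
          ((P.truncLE t).isZero_of_isStrictlyLE t (i + 1) (by omega)))) e)
  haveI : P'.IsLE (t - 1) := (P'.isLE_iff (t - 1)).2 fun i hi =>
    (HomologicalComplex.exactAt_iff_isZero_homology _ _).2 <| by
      refine IsZero.of_iso (HomologicalComplex.ExactAt.isZero_homology
        (HomologicalComplex.ExactAt.of_isZero
          ((P.truncLE t).isZero_of_isStrictlyLE t (i + 1) (by omega)))) ?_
      exact ((HomologicalComplex.homologyFunctor X.Modules (ComplexShape.up ℤ) 0).shiftIso (1 : ℤ) i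
        (i + 1) (add_comm 1 i)).app (P.truncLE t)
  have hc' : ∀ k, (((Hc P').obj J).homology k).IsQuasicoherent :=
    isQCoh_homology_Hc_of_isLE hJ a hJc P' (t - 1) fun i => by
      obtain h | ⟨⟨e⟩⟩ := hP' i
      · exact CohPush.isCoh_of_isZero h
      · exact CohBasics.Closure.isCoh_of_iso e.symm (hP (i + 1))
  have s := shortExact_hcSC
    (HomologicalComplex.shortExact_of_degreewise_shortExact _
      fun k => (LocalTor.Split.coneSplitting ι k).shortExact)
    (fun k => IsSplitMono.mk' ⟨(LocalTor.Split.coneSplitting ι k).r,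
      (LocalTor.Split.coneSplitting ι k).f_r⟩) hJ
  exact TildeEquiv.isQCoh_mid _ _ _ _ _ _ _
    (s.homology_exact₂ n) (s.homology_exact₃ n (n + 1) (by simp))
    (s.homology_exact₁ n (n + 1) (by simp))
    (hc' n) (RpushQCoh.qc_of_isZero (hC n (by omega)))
    (hc' (n + 1)) (RpushQCoh.qc_of_isZero (hC (n + 1) (by omega)))

end Groth.Agent.Lib.Biduality.QcHc
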