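import Groth.Agent.Lib.Biduality.AffineCrit
import Groth.Agent.Lib.Biduality.QcHc

/-!
# `RHom` on an affine scheme into an object of finite injective dimension
-/

set_option autoImplicit false
set_option linter.style.haveILetI false
set_option linter.unusedSectionVars false

universe u

open CategoryTheory Limits AlgebraicGeometry HomologicalComplex

attribute [local instance] HasDerivedCategory.standard

noncomputable section

namespace Groth.Agent.Lib.Biduality.Affine

open Groth.Agent.Lib Groth.Agent.Lib.DerivedOX Groth.Agent.Lib.DR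
open DualHom DualQis Invariance TildeCompare AffineCrit

variable {R : CommRingCat.{u}} [IsNoetherianRing R] [PreservesFiniteLimits (tilde.functor R)]

/-- `RHom` commutes with `tilde`. -/
theorem nonempty_iso (K : DRing.Cx R) (hK : ∀ i : ℤ, Module.Finite R (Dual.HD R (DRing.toD K) i))
    [DRing.HasRHomCx K] (L : Dual.D R) (hL : DRing.HasFiniteInjDim R L)
    (E : CochainComplex (Spec R).Modules ℤ)
    (hE : Nonempty (DCoh.toD (Spec R) E ≅ (DCoh.tildeD R).obj (DRing.toD K)))
    [DCoh.HasLTensorCx E] [DCoh.HasRSheafHom E] :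
    Nonempty ((DCoh.RSheafHom E).obj ((DCoh.tildeD R).obj L) ≅
      (DCoh.tildeD R).obj ((DRing.RHomCx K).obj L)) := by
  obtain ⟨a, b, I, hb, hi, ⟨eI⟩⟩ := hL
  obtain ⟨eE⟩ := hE
  replace hi : ∀ n, Injective (I.X n) := fun n =>
    haveI := hi n; Module.injective_object_of_injective_module R (I.X n)
  haveI : I.IsStrictlyGE a := (CochainComplex.isStrictlyGE_iff _ a).2 fun q hq => hb q (Or.inl hq)
  haveI : I.IsStrictlyLE b := (CochainComplex.isStrictlyLE_iff _ b).2 fun q hq => hb q (Or.inr hq)
  haveI : I.IsKInjective := SpecSeq.AcyclicComplex.isKInjective_of_isStrictlyGE I a hi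
  haveI := isKInjective_tC (R := R) a hi
  haveI := isStrictlyGE_tC I a
  haveI := isStrictlyLE_tC I b
  have hT : InjTerms (tC.obj I) := injTerms_tC hi
  let F := tilde.functor R
  haveI : PreservesColimitsOfSize.{u, u} F :=
    (tilde.adjunction (R := R)).leftAdjoint_preservesColimits
  haveI : PreservesColimitsOfSize.{0, 0} F := preservesColimitsOfSize_shrink.{0, u, 0, u} _
  haveI : PreservesFiniteColimits F := PreservesColimitsOfSize.preservesFiniteColimits.{0, 0} _
  haveI : (tilde.functor R).Additive := inferInstance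
  let eI' : DerivedCategory.Q.obj (tC.obj I) ≅ (DCoh.tildeD R).obj L :=
    ((tilde.functor R).mapDerivedCategoryFactors.app I).symm ≪≫ (DCoh.tildeD R).mapIso eI
  let P := (KProjRes.res R).obj K
  let q : P ⟶ K := (KProjRes.aug R).app K
  haveI : QuasiIso q := KProjRes.quasiIso_aug R K
  have hP : DCoh.IsKFlat (tC.obj P) :=
    TildeStalk.isKFlat_tilde R (DR.KFlat.isKFlat_of_isKProjective P)
  let E₀ := (KFlat.res (Spec R)).obj E
  let rE : E₀ ⟶ E := (KFlat.aug (Spec R)).app E
  haveI : QuasiIso rE := KFlat.quasiIso_aug E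
  obtain ⟨eH⟩ := DualCompare.nonempty_RSheafHom_iso (K := E) (KFlat.isKFlat_res E) rE hT
  let eP : DerivedCategory.Q.obj E₀ ≅ DerivedCategory.Q.obj (tC.obj P) :=
    asIso (DerivedCategory.Q.map rE) ≪≫ eE ≪≫
      (DCoh.tildeD R).mapIso (asIso (DerivedCategory.Q.map q)).symm ≪≫
      (tilde.functor R).mapDerivedCategoryFactors.app P
  obtain ⟨B, s, g, hs, hg⟩ : ∃ (B : CochainComplex (Spec R).Modules ℤ) (s : B ⟶ E₀)
      (g : B ⟶ tC.obj P), QuasiIso s ∧ QuasiIso g := by
    obtain ⟨B, s, hs, g, hg⟩ := DerivedCategory.right_fac eP.hom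
    haveI : IsIso (inv (DerivedCategory.Q.map s) ≫ DerivedCategory.Q.map g) := hg ▸ inferInstance
    haveI : IsIso (DerivedCategory.Q.map g) :=
      IsIso.of_isIso_comp_left (inv (DerivedCategory.Q.map s)) _
    exact ⟨B, s, g, (DerivedCategory.isIso_Q_map_iff_quasiIso _ _).1 hs,
      (DerivedCategory.isIso_Q_map_iff_quasiIso _ _).1 inferInstance⟩
  haveI := quasiIso_pre hT s
  haveI := quasiIso_pre hT g
  have hfP : ∀ i, Module.Finite R (P.homology i) := fun i =>
    haveI := (DMod.BidualityCx.finite_HD_Q_iff K i).1 (hK i)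
    Module.Finite.equiv (isoOfQuasiIsoAt q i : P.homology i ≅ K.homology i).toLinearEquiv.symm
  have hqc : DCoh.IsQCohD (DerivedCategory.Q.obj ((Hc (tC.obj P)).obj (tC.obj I))) := fun i =>
    (WayOut.Scheme.qc _).prop_of_iso
      ((DerivedCategory.homologyFunctorFactors (Spec R).Modules i).app _).symm
      (QcHc.isQCoh_homology_Hc hT a b
        (fun j => (WayOut.Scheme.qc _).prop_of_iso (homologyIso I j).symm
          (inferInstance : (tilde (I.homology j)).IsQuasicoherent))
        (tC.obj P) (fun j => haveI := hfP j; isCoh_homology_tC P j) i)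
  haveI := quasiIso_μ P I hT hP hqc
  obtain ⟨eR⟩ := DMod.BidualityCx.nonempty_RHomCx_kinj K I
  have hq := RHomRes.isIso_precomp q I
  exact ⟨((DCoh.RSheafHom E).mapIso eI').symm ≪≫ eH.symm ≪≫
    asIso (DerivedCategory.Q.map ((pre s).app (tC.obj I))) ≪≫
    (asIso (DerivedCategory.Q.map ((pre g).app (tC.obj I)))).symm ≪≫
    (asIso (DerivedCategory.Q.map (μ P I))).symm ≪≫
    ((tilde.functor R).mapDerivedCategoryFactors.app (DRing.homCx P I)).symm ≪≫
    (DCoh.tildeD R).mapIso ((@asIso _ _ _ _ _ hq).symm ≪≫ eR.symm ≪≫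
      (DRing.RHomCx K).mapIso eI)⟩

end Groth.Agent.Lib.Biduality.Affine
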