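import Groth.Agent.Lib.DerivedOX.TildeTensor
import Groth.Agent.Lib.DerivedOX.TildeEquiv
import Groth.Agent.Lib.DerivedOX.DualBidual
import Groth.Agent.Lib.DerivedOX.DualCompare
import Groth.Agent.Lib.DR.HomCx

/-!
# `tilde Hom^•(P, I) → Hom^•(tilde P, tilde I)`
-/

set_option autoImplicit false
set_option linter.style.haveILetI false
set_option linter.unusedSectionVars false

universe u

open CategoryTheory Limits AlgebraicGeometry HomologicalComplex MonoidalCategory

attribute [local instance] HasDerivedCategory.standard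

noncomputable section

namespace Groth.Agent.Lib.Biduality.TildeTensorRight

open Groth.Agent.Lib Groth.Agent.Lib.Modules Groth.Agent.Lib.DerivedOX
open DualHom BifunctorMap TildeTensor

section NaturalRight

variable {R : CommRingCat.{u}}

theorem b_natural_right (M : ModuleCat.{u} R) {G G' : ModuleCat.{u} R} (ψ : G ⟶ G') :
    (tilde.functor R).map (M ◁ ψ) ≫ b G' M =
      b G M ≫ TensorMod.Basic.tmap (𝟙 (tilde M)) ((tilde.functor R).map ψ) := by
  refine Stalk.hom_ext_stalk fun x => ?_
  letI : Algebra R ((Spec R).presheaf.stalk x) := StructureSheaf.stalkAlgebra R x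
  haveI : IsLocalization.AtPrime ((Spec R).presheaf.stalk x) x.asIdeal :=
    StructureSheaf.IsLocalization.to_stalk R x
  haveI : IsScalarTower R ((Spec R).presheaf.stalk x)
      ((tilde ((MonoidalCategory.tensorRight G).obj M)).presheaf.stalk x) :=
    .of_algebraMap_smul fun _ _ => rfl
  have h₁ : IsBaseChange ((Spec R).presheaf.stalk x)
      (tilde.toStalk ((MonoidalCategory.tensorRight G).obj M) x).hom :=
    IsLocalizedModule.isBaseChange x.asIdeal.primeCompl ((Spec R).presheaf.stalk x) _
  let e := TensorSheaf.tensorStalk x (tilde M) ((tilde.functor R).obj G')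
  suffices h : e.toLinearMap.comp (StalkModule.stalkMapₗ
      ((tilde.functor R).map (M ◁ ψ) ≫ b G' M) x) =
      e.toLinearMap.comp (StalkModule.stalkMapₗ
        (b G M ≫ TensorMod.Basic.tmap (𝟙 (tilde M)) ((tilde.functor R).map ψ)) x) from
    ConcreteCategory.hom_ext _ _ fun w => e.injective (LinearMap.congr_fun h w)
  refine h₁.algHom_ext _ _ fun z => ?_
  have e0 : ∀ (P : ModuleCat.{u} R) (Q : ModuleCat.{u} R) (φ : P ⟶ Q) (w : P),
      StalkModule.stalkMapₗ ((tilde.functor R).map φ) x ((tilde.toStalk P x).hom w) =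
        (tilde.toStalk Q x).hom (φ w) := fun P Q φ w =>
    (StalkModule.stalkMapₗ_germ ((tilde.functor R).map φ) (U := ⊤) (x := x) trivial
      (tilde.toOpen P ⊤ w)).trans (congrArg ((tilde Q).presheaf.germ ⊤ x trivial)
        (ConcreteCategory.congr_hom (tilde.toOpen_map_app φ ⊤) w))
  induction z using TensorProduct.induction_on with
  | zero => erw [map_zero, map_zero, map_zero]
  | tmul m y =>
    rw [StalkModule.stalkMapₗ_comp, StalkModule.stalkMapₗ_comp]
    refine (congrArg (fun t => e (StalkModule.stalkMapₗ (b G' M) x t))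
      (e0 _ _ (M ◁ ψ) (m ⊗ₜ[R] y))).trans ?_
    refine (stalk_b G' x M m (ψ y)).trans ?_
    have hn := TensorSheaf.tensorStalk_natural x (𝟙 (tilde M)) ((tilde.functor R).map ψ)
      (StalkModule.stalkMapₗ (b G M) x ((tilde.toStalk _ x).hom (m ⊗ₜ[R] y)))
    rw [CategoryTheory.Functor.map_id, NatTrans.id_app, Category.id_comp,
      PullTensor.tensorBi_obj_map] at hn
    refine Eq.trans ?_ hn.symm
    refine Eq.trans ?_ (congrArg (TensorProduct.map (StalkModule.stalkMapₗ (𝟙 (tilde M)) x)
      (StalkModule.stalkMapₗ ((tilde.functor R).map ψ) x)) (stalk_b G x M m y)).symm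
    refine congrArg₂ (· ⊗ₜ[TensorStalk.Ox x] ·) ?_ (e0 _ _ ψ y).symm
    rw [StalkModule.stalkMapₗ_id]
    rfl
  | add a a' ha ha' => erw [map_add, map_add, map_add]; exact congrArg₂ (· + ·) ha ha'

/-- Tilde commutes with tensor products, as a comparison of bifunctors. -/
def tildeComparison :
    Comparison (curriedTensor (ModuleCat.{u} R)) (DCoh.tensorBi (X := Spec R))
      (tilde.functor R) (tilde.functor R) (tilde.functor R) where
  iso M N := haveI := isIso_b N M; (asIso (b N M)).symm
  natural₁ {M M'} f N := by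
    haveI := isIso_b N M
    haveI := isIso_b N M'
    refine (Iso.comp_inv_eq _).2 ((Category.assoc _ _ _).trans ((Iso.inv_comp_eq _).2 ?_)).symm
    exact b_natural N f
  natural₂ M {N N'} g := by
    haveI := isIso_b N M
    haveI := isIso_b N' M
    refine (Iso.comp_inv_eq _).2 ((Category.assoc _ _ _).trans ((Iso.inv_comp_eq _).2 ?_)).symm
    rw [PullTensor.tensorBi_obj_map]
    exact b_natural_right M g

end NaturalRight

end Groth.Agent.Lib.Biduality.TildeTensorRight
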