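import Groth.Agent.Lib.DerivedOX.TildeTensor
import Groth.Agent.Lib.DerivedOX.TildeEquiv
import Groth.Agent.Lib.DerivedOX.DualBidual
import Groth.Agent.Lib.DerivedOX.DualCompare
import Groth.Agent.Lib.DR.HomCx
import Groth.Agent.Lib.Biduality.TildeTensorRight

/-!
# `tilde Hom^•(P, I) → Hom^•(tilde P, tilde I)`
-/

set_option autoImplicit false
set_option linter.style.haveILetI false
set_option linter.unusedSectionVars false

universe u

open CategoryTheory Limits AlgebraicGeometry HomologicalComplex MonoidalCategory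

attribute [local instance] HasDerivedCategory.standard

noncomputable section

namespace Groth.Agent.Lib.Biduality.TildeCompare

open Groth.Agent.Lib Groth.Agent.Lib.Modules Groth.Agent.Lib.DerivedOX
open DualHom BifunctorMap TildeTensor TildeTensorRight

variable {R : CommRingCat.{u}}

/-- Tilde on complexes. -/
abbrev tC : DRing.Cx R ⥤ CochainComplex (Spec R).Modules ℤ :=
  (tilde.functor R).mapHomologicalComplex (ComplexShape.up ℤ)

/-- `tilde M ⊗ tilde P ≅ tilde (M ⊗ P)` for complexes. -/
def tT (M P : DRing.Cx R) : (Tc (tC.obj P)).obj (tC.obj M) ≅ tC.obj (M ⊗ P) :=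
  haveI : (tilde.functor R).Additive := inferInstance
  haveI : PreservesColimitsOfSize.{u, u} (tilde.functor R) :=
    (tilde.adjunction (R := R)).leftAdjoint_preservesColimits
  haveI : PreservesColimitsOfSize.{0, 0} (tilde.functor R) :=
    preservesColimitsOfSize_shrink.{0, u, 0, u} _
  totalIso tildeComparison M P

theorem tT_natural {M M' : DRing.Cx R} (f : M ⟶ M') (P : DRing.Cx R) :
    (DCoh.tensorCx.map (tC.map f)).app (tC.obj P) ≫ (tT M' P).hom =
      (tT M P).hom ≫ tC.map (f ▷ P) := by
  haveI : (tilde.functor R).Additive := inferInstance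
  haveI : PreservesColimitsOfSize.{u, u} (tilde.functor R) :=
    (tilde.adjunction (R := R)).leftAdjoint_preservesColimits
  haveI : PreservesColimitsOfSize.{0, 0} (tilde.functor R) :=
    preservesColimitsOfSize_shrink.{0, u, 0, u} _
  have h := totalIso_natural (tildeComparison (R := R)) f (𝟙 P)
  rw [CategoryTheory.Functor.map_id] at h
  exact h

variable (P I : DRing.Cx R)

/-- The comparison `tilde Hom(P, I) → Hom(tilde P, tilde I)`. -/
def μ : tC.obj (DRing.homCx P I) ⟶ (Hc (tC.obj P)).obj (tC.obj I) :=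
  (adj (tC.obj P)).homEquiv _ _
    ((tT (DRing.homCx P I) P).hom ≫ tC.map (DR.HomCx.homEquiv.symm (𝟙 (DRing.homCx P I))))

theorem map_μ {M : DRing.Cx R} (g : M ⊗ P ⟶ I) :
    tC.map (DR.HomCx.homEquiv g) ≫ μ P I =
      (adj (tC.obj P)).homEquiv _ _ ((tT M P).hom ≫ tC.map g) := by
  refine ((adj (tC.obj P)).homEquiv_naturality_left _ _).symm.trans ?_
  refine congrArg _ ?_
  let f := DR.HomCx.homEquiv g
  let v := DR.HomCx.homEquiv.symm (𝟙 (DRing.homCx P I))
  have h1 : f ▷ P ≫ v = g := by
    apply DR.HomCx.homEquiv.injective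
    rw [DR.HomCx.homEquiv_naturality_left, Equiv.apply_symm_apply]
    exact Category.comp_id _
  have h2 : (DCoh.tensorCx.map (tC.map f)).app (tC.obj P) ≫ (tT (DRing.homCx P I) P).hom ≫ tC.map v =
      (tT M P).hom ≫ tC.map g := by
    rw [← Category.assoc, tT_natural, Category.assoc, ← Functor.map_comp, h1]
  exact h2

variable [PreservesFiniteLimits (tilde.functor R)]

/-- Tilde on complexes is fully faithful. -/
def fullyFaithful : (tC (R := R)).FullyFaithful :=
  haveI : ∀ E, IsIso ((TildeEquiv.adjC R).unit.app E) := fun E => TildeEquiv.isIso_unit R E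
  haveI : IsIso (TildeEquiv.adjC R).unit := NatIso.isIso_of_isIso_app _
  (TildeEquiv.adjC R).fullyFaithfulLOfIsIsoUnit

theorem isIso_adjunct_μ : IsIso (TildeEquiv.adjunct R (μ P I)) := by
  refine isIso_of_yoneda_map_bijective _ fun M => ?_
  let aC := TildeEquiv.adjC R
  let e : (M ⟶ DRing.homCx P I) ≃ (M ⟶ ((TildeEquiv.G R).mapHomologicalComplex
      (ComplexShape.up ℤ)).obj ((Hc (tC.obj P)).obj (tC.obj I))) :=
    DR.HomCx.homEquiv.symm.trans (fullyFaithful.homEquiv.trans ((tT M P).homFromEquiv.symm.trans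
      (((adj (tC.obj P)).homEquiv _ _).trans (aC.homEquiv _ _))))
  have he : (fun f : M ⟶ DRing.homCx P I => f ≫ TildeEquiv.adjunct R (μ P I)) = e :=
    funext fun f => by
      obtain ⟨g, rfl⟩ := DR.HomCx.homEquiv.surjective f
      simp only [e, Equiv.trans_apply, Equiv.symm_apply_apply, Iso.homFromEquiv, Equiv.coe_fn_symm_mk,
        Functor.FullyFaithful.homEquiv_apply]
      refine Eq.trans ?_ (congrArg (aC.homEquiv _ _) (map_μ P I g))
      rw [Adjunction.homEquiv_naturality_left, Adjunction.homEquiv_unit]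
  rw [he]
  exact e.bijective

/-- A K-injective complex with quasi-coherent cohomology is the tilde of its global sections. -/
theorem quasiIso_counit (T : CochainComplex (Spec R).Modules ℤ) [T.IsKInjective]
    (hT : DCoh.IsQCohD (DerivedCategory.Q.obj T)) :
    QuasiIso ((TildeEquiv.adjC R).counit.app T) := by
  obtain ⟨M, ⟨e⟩⟩ := TildeEquiv.exists_preimage R _ hT
  let E := DerivedCategory.Q.objPreimage M
  let eE : DerivedCategory.Q.obj (tC.obj E) ≅ DerivedCategory.Q.obj T :=
    ((tilde.functor R).mapDerivedCategoryFactors.app E).symm ≪≫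
      (DCoh.tildeD R).mapIso (DerivedCategory.Q.objObjPreimageIso M) ≪≫ e
  obtain ⟨i, hi⟩ := (DualCompare.Q_map_bijective_aux (J := T)).1 eE.hom
  haveI : QuasiIso i := (DerivedCategory.isIso_Q_map_iff_quasiIso _ _).1 (hi ▸ inferInstance)
  haveI := TildeEquiv.quasiIso_adjunct R i
  haveI : QuasiIso (((TildeEquiv.F R).mapHomologicalComplex (ComplexShape.up ℤ)).map
      (TildeEquiv.adjunct R i)) := inferInstance
  haveI : QuasiIso (((TildeEquiv.F R).mapHomologicalComplex (ComplexShape.up ℤ)).map
      (TildeEquiv.adjunct R i) ≫ (TildeEquiv.adjC R).counit.app T) := by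
    rw [TildeEquiv.map_adjunct_counit]
    infer_instance
  exact quasiIso_of_comp_left (((TildeEquiv.F R).mapHomologicalComplex
    (ComplexShape.up ℤ)).map (TildeEquiv.adjunct R i)) _

/-- The comparison is a quasi-isomorphism when the target has quasi-coherent cohomology. -/
theorem quasiIso_μ [(tC.obj I).IsKInjective] (hI : InjTerms (tC.obj I))
    (hP : DCoh.IsKFlat (tC.obj P))
    (hqc : DCoh.IsQCohD (DerivedCategory.Q.obj ((Hc (tC.obj P)).obj (tC.obj I)))) :
    QuasiIso (μ P I) := by
  haveI := isKInjective_Hc hP hI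
  haveI := quasiIso_counit _ hqc
  haveI := isIso_adjunct_μ P I
  rw [← TildeEquiv.map_adjunct_counit R (μ P I)]
  infer_instance

end Groth.Agent.Lib.Biduality.TildeCompare
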