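import Groth.Agent.Lib.Biduality.Invariance
import Groth.Agent.Lib.Biduality.TildeCompare
import Groth.Agent.Lib.SchColim29.RHomFid
import Groth.Agent.Lib.DerivedOX.TildeStalk
import Groth.Agent.Lib.DMod.BidualityCx
import Groth.Agent.Lib.InjMod.Flasque
import Groth.Agent.H78.Formal.Algebraize

/-!
# Biduality for the structure sheaf on an affine scheme

For a bounded complex of injectives `I` representing a dualizing complex of a Noetherian ring `R`, with
K-projective resolution `P → I`, the transpose `O → Hom(tilde P, tilde I)` of every quasi-isomorphism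
`tilde P → tilde I` is a quasi-isomorphism.
-/

set_option autoImplicit false
set_option linter.style.haveILetI false
set_option linter.unusedSectionVars false

universe u

open CategoryTheory Limits AlgebraicGeometry HomologicalComplex MonoidalCategory

attribute [local instance] HasDerivedCategory.standard

noncomputable section

namespace Groth.Agent.Lib.Biduality.AffineCrit

open Groth.Agent.Lib Groth.Agent.Lib.DerivedOX Groth.Agent.Lib.DMod Groth.Agent.Lib.DR
open DualHom DualQis DualFree Invariance TildeCompare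

variable {R : CommRingCat.{u}} [PreservesFiniteLimits (tilde.functor R)]

instance preservesHomology_tilde : (tilde.functor R).PreservesHomology :=
  haveI : (tilde.functor R).Additive := inferInstance
  haveI : PreservesColimitsOfSize.{u, u} (tilde.functor R) :=
    (tilde.adjunction (R := R)).leftAdjoint_preservesColimits
  haveI : PreservesColimitsOfSize.{0, 0} (tilde.functor R) :=
    preservesColimitsOfSize_shrink.{0, u, 0, u} _
  haveI : PreservesFiniteColimits (tilde.functor R) :=
    PreservesColimitsOfSize.preservesFiniteColimits.{0, 0} _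
  inferInstance

/-- Cohomology commutes with `tilde`. -/
def homologyIso (K : DRing.Cx R) (n : ℤ) : (tC.obj K).homology n ≅ tilde (K.homology n) :=
  (K.sc n).mapHomologyIso (tilde.functor R)

theorem iso_aux {C : Type*} [Category C] {A B D E F G : C} (a : A ≅ B) (b : B ≅ D) (c : D ≅ E)
    (x : A ⟶ F) (y : F ⟶ G) :
    a.hom ≫ b.hom ≫ c.hom ≫ (((a ≪≫ b ≪≫ c).inv ≫ x) ≫ y) = x ≫ y := by simp

theorem m_eq {X : Scheme.{u}} {P J M : CochainComplex X.Modules ℤ} (e : one X ⟶ M)
    (c : (Tc P).obj M ⟶ J) (r : P ⟶ J) (h : (Tc P).map e ≫ c = (lu P).hom ≫ r) :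
    e ≫ (adj P).homEquiv _ _ c = m r := by
  rw [← Adjunction.homEquiv_naturality_left, h]
  rfl

variable [IsNoetherianRing R]

theorem isCoh_homology_tC (K : DRing.Cx R) (n : ℤ) [Module.Finite R (K.homology n)] :
    Coh.IsCoh ((tC.obj K).homology n) :=
  CohBasics.Closure.isCoh_of_iso (homologyIso K n).symm
    (Groth.Agent.H78.Formal.Algebraize.isCoh_tilde (A := R) (K.homology n))

theorem injTerms_tC {I : DRing.Cx R} (hi : ∀ n, Injective (I.X n)) : InjTerms (tC.obj I) := fun n =>
  InjMod.injective_tilde R (I.X n)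
    (haveI := hi n; Module.injective_module_of_injective_object R (I.X n))

theorem isStrictlyGE_tC (I : DRing.Cx R) (a : ℤ) [I.IsStrictlyGE a] : (tC.obj I).IsStrictlyGE a :=
  (CochainComplex.isStrictlyGE_iff _ a).2 fun i hi =>
    (tilde.functor R).map_isZero (I.isZero_of_isStrictlyGE a i hi)

theorem isStrictlyLE_tC (I : DRing.Cx R) (b : ℤ) [I.IsStrictlyLE b] : (tC.obj I).IsStrictlyLE b :=
  (CochainComplex.isStrictlyLE_iff _ b).2 fun i hi =>
    (tilde.functor R).map_isZero (I.isZero_of_isStrictlyLE b i hi)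

variable {I : DRing.Cx R} (a b : ℤ) [I.IsStrictlyGE a] [I.IsStrictlyLE b]
  (hi : ∀ n, Injective (I.X n))

include a hi in
omit [I.IsStrictlyLE b] in
theorem isKInjective_tC : (tC.obj I).IsKInjective :=
  haveI := isStrictlyGE_tC I a
  SpecSeq.AcyclicComplex.isKInjective_of_isStrictlyGE (tC.obj I) a (injTerms_tC hi)

include hi a b in
theorem crit_tilde (hω : Dual.IsDualizing R (DerivedCategory.Q.obj I)) :
    Crit (tC.obj ((KProjRes.res R).obj I)) (tC.obj I) := by
  intro r hr
  haveI := isKInjective_tC a hi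
  haveI := isStrictlyGE_tC I a
  haveI := isStrictlyLE_tC I b
  haveI : I.IsKInjective := SpecSeq.AcyclicComplex.isKInjective_of_isStrictlyGE I a hi
  let P := (KProjRes.res R).obj I
  let q : P ⟶ I := (KProjRes.aug R).app I
  haveI hq : QuasiIso q := KProjRes.quasiIso_aug R I
  have hfI : ∀ i, Module.Finite R (I.homology i) := fun i =>
    (BidualityCx.finite_HD_Q_iff I i).1 (hω.finite_cohomology i)
  have hfP : ∀ i, Module.Finite R (P.homology i) := fun i =>
    haveI := hfI i
    Module.Finite.equiv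
      (isoOfQuasiIsoAt q i).toLinearEquiv.symm
  have hP : DCoh.IsKFlat (tC.obj P) :=
    TildeStalk.isKFlat_tilde R (DR.KFlat.isKFlat_of_isKProjective P)
  have hqc : DCoh.IsQCohD (DerivedCategory.Q.obj ((Hc (tC.obj P)).obj (tC.obj I))) := fun i =>
    (WayOut.Scheme.qc _).prop_of_iso
      ((DerivedCategory.homologyFunctorFactors (Spec R).Modules i).app _).symm
      (SchColim29.RHomFid.isCoh_homology_Hc (injTerms_tC hi) a b
        (fun j => haveI := hfI j; isCoh_homology_tC I j) (tC.obj P)
        (fun j => haveI := hfP j; isCoh_homology_tC P j) i).1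
  obtain ⟨rA, rfl⟩ := fullyFaithful.map_surjective r
  haveI : (tilde.functor R).Full := (tilde.fullyFaithfulFunctor (R := R)).full
  haveI : (tilde.functor R).Faithful := (tilde.fullyFaithfulFunctor (R := R)).faithful
  haveI : QuasiIso rA := (quasiIso_map_iff_of_preservesHomology rA (tilde.functor R)).1 hr
  haveI := quasiIso_μ P I (injTerms_tC hi) hP hqc
  let e₁ : one (Spec R) ≅ tC.obj (𝟙_ (DRing.Cx R)) :=
    (single (Spec R).Modules (ComplexShape.up ℤ) 0).mapIso (tildeSelf (R := R)).symm ≪≫
      ((HomologicalComplex.singleMapHomologicalComplex (tilde.functor R) (ComplexShape.up ℤ) 0).app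
        (ModuleCat.of R R)).symm
  let ζ : (Tc (tC.obj P)).obj (one (Spec R)) ≅ tC.obj P :=
    (Tc (tC.obj P)).mapIso e₁ ≪≫ tT (𝟙_ (DRing.Cx R)) P ≪≫ tC.mapIso (λ_ P)
  let ψ := ζ.inv ≫ (lu (tC.obj P)).hom
  obtain ⟨rB, hrB⟩ := fullyFaithful.map_surjective (ψ ≫ tC.map rA)
  haveI : QuasiIso rB := (quasiIso_map_iff_of_preservesHomology rB (tilde.functor R)).1 (by
    change QuasiIso (tC.map rB)
    rw [hrB]
    infer_instance)
  let g' : 𝟙_ (DRing.Cx R) ⊗ P ⟶ I := (λ_ P).hom ≫ rB
  haveI : QuasiIso (DR.HomCx.homEquiv g') := by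
    have e : DR.HomCx.homEquiv g' = RelDual.Elem.endUnit I ≫ (RHomRes.precomp rB).app I := by
      rw [RelDual.Elem.endUnit, RHomRes.homEquiv_comp_precomp, leftUnitor_naturality]
    rw [e]
    exact RelDual.Duality.qis_comp _ _
      (BidualityCx.quasiIso_endUnit I hω.toEnd_bijective hω.ext_self_subsingleton)
      ((DerivedCategory.isIso_Q_map_iff_quasiIso _ _).1 (RHomRes.isIso_precomp rB I))
  have h : m (tC.map rA) = e₁.hom ≫ tC.map (DR.HomCx.homEquiv g') ≫ μ P I := by
    rw [map_μ P I g']
    refine (m_eq e₁.hom _ _ ?_).symm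
    rw [show (tC (R := R)).map g' = ((tC (R := R)).mapIso (λ_ P)).hom ≫ (tC (R := R)).map rB from
      (tC (R := R)).map_comp (λ_ P).hom rB, hrB]
    exact iso_aux ((Tc (tC.obj P)).mapIso e₁) (tT (𝟙_ (DRing.Cx R)) P) ((tC (R := R)).mapIso (λ_ P))
      (lu (tC.obj P)).hom (tC.map rA)
  rw [h]
  haveI h₁ : QuasiIso (tC.map (DR.HomCx.homEquiv g')) :=
    (quasiIso_map_iff_of_preservesHomology _ (tilde.functor R)).2 (by assumption)
  haveI h₂ : QuasiIso (tC.map (DR.HomCx.homEquiv g') ≫ μ P I) :=
    quasiIso_comp (tC.map (DR.HomCx.homEquiv g')) (μ P I)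
  exact quasiIso_comp e₁.hom (tC.map (DR.HomCx.homEquiv g') ≫ μ P I)

end Groth.Agent.Lib.Biduality.AffineCrit
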