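import Groth.Agent.Lib.DerivedOX.DualBidualPerfect
import Groth.Agent.Lib.DerivedOX.DualCompare

/-!
# Invariance of internal Hom complexes and of the unit `O → Hom(P, J)`
-/

set_option autoImplicit false
set_option linter.style.haveILetI false
set_option linter.unusedSectionVars false

universe u

open CategoryTheory Limits AlgebraicGeometry HomologicalComplex

attribute [local instance] HasDerivedCategory.standard

noncomputable section

namespace Groth.Agent.Lib.Biduality.Invariance

open Groth.Agent.Lib Groth.Agent.Lib.DerivedOX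
open DualHom DualQis DualFree DualBidual TrivCof LeftRes

variable {X : Scheme.{u}}

/-- A quasi-isomorphism of K-injective complexes is an isomorphism up to homotopy. -/
theorem isIso_qK_map {J J' : CochainComplex X.Modules ℤ} [J.IsKInjective] [J'.IsKInjective]
    (u : J ⟶ J') [QuasiIso u] : IsIso ((qK X).map u) := by
  obtain ⟨φ, hφ⟩ := (precomp_bijective (J := J) u).2 (𝟙 ((qK X).obj J))
  refine ⟨φ, hφ, (precomp_bijective (J := J') u).1 ?_⟩
  change (qK X).map u ≫ φ ≫ (qK X).map u = (qK X).map u ≫ 𝟙 _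
  rw [← Category.assoc, show (qK X).map u ≫ φ = 𝟙 _ from hφ, Category.id_comp, Category.comp_id]

/-- `Hom^•(P, -)` respects homotopy of maps into complexes with injective terms. -/
theorem qK_Hc_map {J J' : CochainComplex X.Modules ℤ} (hJ' : InjTerms J') {f g : J ⟶ J'}
    (h : (qK X).map f = (qK X).map g) (P : CochainComplex X.Modules ℤ) :
    (qK X).map ((Hc P).map f) = (qK X).map ((Hc P).map g) := by
  refine (quotient_map_eq_iff P hJ' _ _).2 ?_
  simp only [Adjunction.homEquiv_counit]
  have n1 := (adj P).counit.naturality f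
  have n2 := (adj P).counit.naturality g
  simp only [Functor.comp_map, Functor.id_map] at n1 n2
  rw [n1, n2, Functor.map_comp, Functor.map_comp, h]

/-- `Hom^•(P, -)` preserves quasi-isomorphisms of K-injective complexes. -/
theorem quasiIso_Hc_map {J J' : CochainComplex X.Modules ℤ} [J.IsKInjective] [J'.IsKInjective]
    (hJ : InjTerms J) (hJ' : InjTerms J') (u : J ⟶ J') [QuasiIso u]
    (P : CochainComplex X.Modules ℤ) : QuasiIso ((Hc P).map u) := by
  haveI := isIso_qK_map u
  let F := Hc P
  obtain ⟨v, hv⟩ := (qK X).map_surjective (inv ((qK X).map u))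
  have e₁ : (qK X).map (F.map u ≫ F.map v) = (qK X).map (𝟙 (F.obj J)) := by
    rw [← F.map_comp, ← F.map_id]
    exact qK_Hc_map hJ (by rw [Functor.map_comp, hv, IsIso.hom_inv_id, CategoryTheory.Functor.map_id]) P
  have e₂ : (qK X).map (F.map v ≫ F.map u) = (qK X).map (𝟙 (F.obj J')) := by
    rw [← F.map_comp, ← F.map_id]
    exact qK_Hc_map hJ' (by rw [Functor.map_comp, hv, IsIso.inv_hom_id, CategoryTheory.Functor.map_id]) P
  let e : HomotopyEquiv (F.obj J) (F.obj J') := ⟨F.map u, F.map v,
    HomotopyCategory.homotopyOfEq _ _ e₁, HomotopyCategory.homotopyOfEq _ _ e₂⟩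
  exact ⟨fun i => (quasiIsoAt_iff_isIso_homologyMap _ i).2 (e.toHomologyIso i).isIso_hom⟩

variable {P P' J J' : CochainComplex X.Modules ℤ}

/-- Precomposition with a quasi-isomorphism on internal Homs. -/
theorem quasiIso_pre [J.IsKInjective] (hJ : InjTerms J) (a : P' ⟶ P) [QuasiIso a] :
    QuasiIso ((pre a).app J) :=
  (Qis.quasiIso_iff_forall_stalk _).2 fun x =>
    qisAt_pre (V := ⊤) hJ a (QisAt.of_quasiIso a) x trivial

/-- `O ⊗ P ≅ P`. -/
def lu (P : CochainComplex X.Modules ℤ) : (Tc P).obj (one X) ≅ P :=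
  (commCx (one X) P : (Tc P).obj (one X) ≅ (Tc (one X)).obj P) ≪≫ (unitIso.app P).symm

theorem lu_natural (a : P' ⟶ P) :
    (DCoh.tensorCx.obj (one X)).map a ≫ (lu P).hom = (lu P').hom ≫ a := by
  have h := (unitIso (X := X)).inv.naturality a
  simp only [Functor.id_map] at h
  refine ((Category.assoc _ _ _).symm.trans (congrArg (· ≫ (unitIso (X := X)).inv.app P)
    (commT_right (one X) a))).trans ?_
  refine (Category.assoc _ _ _).trans ((congrArg (commT (one X) P' ≫ ·) h).trans ?_)
  exact (Category.assoc _ _ _).symm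

/-- The transpose `O → Hom(P, J)` of a map `P → J`. -/
def m (r : P ⟶ J) : one X ⟶ (Hc P).obj J := (adj P).homEquiv _ _ ((lu P).hom ≫ r)

theorem m_pre (a : P' ⟶ P) (r : P ⟶ J) : m r ≫ (pre a).app J = m (a ≫ r) := by
  apply ((adj P').homEquiv _ _).symm.injective
  rw [homEquiv_symm_comp_pre, m, m, Equiv.symm_apply_apply, Equiv.symm_apply_apply]
  rw [reassoc_of% (lu_natural a)]

theorem m_map (u : J ⟶ J') (r : P ⟶ J) : m r ≫ (Hc P).map u = m (r ≫ u) := by
  rw [m, m, ← Adjunction.homEquiv_naturality_right, Category.assoc]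

theorem quotient_m (hJ : InjTerms J) {r r' : P ⟶ J} (h : (qK X).map r = (qK X).map r') :
    (qK X).map (m r) = (qK X).map (m r') := by
  refine (quotient_map_eq_iff P hJ _ _).2 ?_
  rw [m, m, Equiv.symm_apply_apply, Equiv.symm_apply_apply, Functor.map_comp, Functor.map_comp, h]

/-- The transpose of every quasi-isomorphism `P → J` is one. -/
def Crit (P J : CochainComplex X.Modules ℤ) : Prop :=
  ∀ r : P ⟶ J, QuasiIso r → QuasiIso (m r)

theorem crit_of_qis [J.IsKInjective] (hJ : InjTerms J) [J'.IsKInjective] (hJ' : InjTerms J')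
    (u : J ⟶ J') [QuasiIso u] {B : CochainComplex X.Modules ℤ} (a : B ⟶ P) (g : B ⟶ P') [QuasiIso a]
    [QuasiIso g] (h : Crit P' J') : Crit P J := by
  intro r hr
  haveI := quasiIso_pre hJ' g
  haveI := quasiIso_pre hJ' a
  haveI := quasiIso_Hc_map hJ hJ' u P
  obtain ⟨φ, hφ⟩ := (precomp_bijective (J := J') g).2 ((qK X).map (a ≫ r ≫ u))
  obtain ⟨r', rfl⟩ := (qK X).map_surjective φ
  have hφ' : (qK X).map (g ≫ r') = (qK X).map (a ≫ r ≫ u) := by rw [Functor.map_comp]; exact hφ
  haveI : QuasiIso (g ≫ r') := by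
    have e : ∀ i, homologyMap (g ≫ r') i = homologyMap (a ≫ r ≫ u) i := fun i =>
      (HomotopyCategory.homotopyOfEq _ _ hφ').homologyMap_eq i
    refine ⟨fun i => (quasiIsoAt_iff_isIso_homologyMap _ i).2 ?_⟩
    rw [e i]
    infer_instance
  haveI : QuasiIso r' := quasiIso_of_comp_left g r'
  haveI := h r' inferInstance
  haveI : QuasiIso (m (a ≫ r ≫ u)) := by
    have e : ∀ i, homologyMap (m (g ≫ r')) i = homologyMap (m (a ≫ r ≫ u)) i := fun i =>
      (HomotopyCategory.homotopyOfEq _ _ (quotient_m hJ' hφ')).homologyMap_eq i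
    refine ⟨fun i => (quasiIsoAt_iff_isIso_homologyMap _ i).2 ?_⟩
    rw [← e i, ← m_pre]
    infer_instance
  haveI : QuasiIso (m (r ≫ u) ≫ (pre a).app J') := by rw [m_pre]; assumption
  haveI : QuasiIso (m (r ≫ u)) := quasiIso_of_comp_right _ ((pre a).app J')
  haveI : QuasiIso (m r ≫ (Hc P).map u) := by rw [m_map]; assumption
  exact quasiIso_of_comp_right _ ((Hc P).map u)

end Groth.Agent.Lib.Biduality.Invariance
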