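import Groth.Agent.Lib.Biduality.Restrict
import Groth.Agent.Lib.Biduality.Invariance
import Groth.Agent.Lib.SchColim29.RHomFid
import Groth.Agent.Lib.DerivedOX.OpenImm

/-!
# Vanishing of internal Homs into a complex which is bounded injective on a chart
-/

set_option autoImplicit false
set_option linter.style.haveILetI false
set_option linter.unusedSectionVars false

universe u

open CategoryTheory Limits AlgebraicGeometry HomologicalComplex

attribute [local instance] HasDerivedCategory.standard

noncomputable section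

namespace Groth.Agent.Lib.Biduality.Chart

open Groth.Agent.Lib Groth.Agent.Lib.DerivedOX Groth.Agent.Lib.Modules
open DualHom DualQis StalkModule Invariance
open Groth.Agent.Lib.Perfect Groth.Agent.Lib.Perfect.Basic

variable {X U : Scheme.{u}} (j : U ⟶ X) [IsOpenImmersion j]

theorem injTerms_rC {J : CochainComplex X.Modules ℤ} (hJ : InjTerms J) : InjTerms ((rC j).obj J) :=
  fun n =>
    haveI := hJ n
    (SiteCmp29.GammaZ.restrict_preservesInjectiveObjects j).injective_obj inferInstance

theorem isKInjective_rC (J : CochainComplex X.Modules ℤ) [hJ : J.IsKInjective] :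
    ((rC j).obj J).IsKInjective :=
  haveI : PreservesFiniteColimits (CxOX.extZero j) :=
    haveI : PreservesColimitsOfSize.{0, 0} (CxOX.extZero j) :=
      (CxOX.extZeroAdj j).leftAdjoint_preservesColimits
    PreservesColimitsOfSize.preservesFiniteColimits.{0, 0} _
  RestrictKInj.isKInjective_of_adj (CxOX.extZeroAdj j) hJ

/-- A quasi-isomorphism on the range restricts to one. -/
theorem quasiIso_rC {K L : CochainComplex X.Modules ℤ} {f : K ⟶ L} (h : QisAt j.opensRange f) :
    QuasiIso ((rC j).map f) := by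
  refine (Qis.quasiIso_iff_forall_stalk _).2 fun y => ?_
  haveI := h (j y) ⟨y, rfl⟩
  let σ := (asIso (j.stalkMap y)).commRingCatIsoToRingEquiv
  let S' := ModuleCat.restrictScalars.{u} σ.symm.toRingHom
  haveI : QuasiIso ((S'.mapHomologicalComplex (ComplexShape.up ℤ)).map ((St (j y)).map f)) :=
    inferInstance
  let t := NatIso.mapHomologicalComplex (Spread.stalkRestrictIso j y) (ComplexShape.up ℤ)
  exact ((MorphismProperty.arrow_mk_iso_iff (HomologicalComplex.quasiIso _ _)
    (Arrow.isoMk (t.app K) (t.app L) (t.hom.naturality f).symm))).1 this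

/-- Exactness on a chart gives exactness at its stalks. -/
theorem exactAt_St (K : CochainComplex X.Modules ℤ) (n : ℤ) (h : IsZero (((rC j).obj K).homology n))
    {x : X} (hx : x ∈ j.opensRange) : ((St x).obj K).ExactAt n := by
  obtain ⟨y, rfl⟩ := hx
  let σ := (asIso (j.stalkMap y)).commRingCatIsoToRingEquiv
  let S' := ModuleCat.restrictScalars.{u} σ.symm.toRingHom
  have h1 : ((St y).obj ((rC j).obj K)).ExactAt n :=
    (exactAt_iff _ n).2 (((exactAt_iff _ n).1 ((exactAt_iff_isZero_homology _ n).2 h)).map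
      (stalkModFunctor U y))
  have h2 : ((S'.mapHomologicalComplex (ComplexShape.up ℤ)).obj ((St (j y)).obj K)).ExactAt n :=
    h1.of_iso ((NatIso.mapHomologicalComplex (Spread.stalkRestrictIso j y) (ComplexShape.up ℤ)).app K).symm
  exact (exactAt_iff _ n).2 ((ShortComplex.exact_map_iff_of_faithful _ S').1 ((exactAt_iff _ n).1 h2))

variable (J : CochainComplex X.Modules ℤ) [J.IsKInjective] (hJ : InjTerms J)
  {J₀ : CochainComplex U.Modules ℤ} [J₀.IsKInjective] (hJ₀ : InjTerms J₀)
  (u : (rC j).obj J ⟶ J₀) [QuasiIso u]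

include hJ hJ₀ u

/-- The cohomology of `Hc(C, J)` on the chart. -/
theorem nonempty_homology_iso (C : CochainComplex X.Modules ℤ) (n : ℤ) :
    Nonempty (((rC j).obj ((Hc C).obj J)).homology n ≅
      ((Hc ((rC j).obj C)).obj J₀).homology n) := by
  haveI := isKInjective_rC j J
  haveI := quasiIso_Hc_map (injTerms_rC j hJ) hJ₀ u ((rC j).obj C)
  exact ⟨(homologyFunctor _ _ n).mapIso (asIso (Restrict.κ j C J)) ≪≫
    isoOfQuasiIsoAt ((Hc ((rC j).obj C)).map u) n⟩

/-- Vanishing in high degrees. -/
theorem isZero_of_isGE (C : CochainComplex X.Modules ℤ) (c b : ℤ) [((rC j).obj C).IsGE c]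
    [J₀.IsStrictlyLE b] (n : ℤ) (hn : b < n + c) :
    IsZero (((rC j).obj ((Hc C).obj J)).homology n) := by
  obtain ⟨e⟩ := nonempty_homology_iso j J hJ hJ₀ u C n
  exact (SchColim29.RHomFid.isZero_homology_Hc_of_isGE hJ₀ _ c b n hn).of_iso e

/-- Vanishing in low degrees. -/
theorem isZero_of_isLE (C : CochainComplex X.Modules ℤ) (c a : ℤ) [((rC j).obj C).IsLE c]
    [J₀.IsStrictlyGE a] (n : ℤ) (hn : n + c < a) :
    IsZero (((rC j).obj ((Hc C).obj J)).homology n) := by
  obtain ⟨e⟩ := nonempty_homology_iso j J hJ hJ₀ u C n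
  let C' := (rC j).obj C
  haveI : QuasiIso (C'.ιTruncLE c) := (C'.quasiIso_ιTruncLE_iff c).2 inferInstance
  haveI := quasiIso_pre hJ₀ (C'.ιTruncLE c)
  exact ((SchColim29.RHomLocal.isZero_homology_Hc (C'.truncLE c) c a n hn).of_iso
    (isoOfQuasiIsoAt ((pre (C'.ιTruncLE c)).app J₀) n)).of_iso e

/-- A complex which is `≤ c` at the chart has a dual which is `≥ a - c` there, and conversely. -/
theorem isGE_dual (C : CochainComplex X.Modules ℤ) (c a : ℤ) [((rC j).obj C).IsLE c]
    [J₀.IsStrictlyGE a] : ((rC j).obj ((Hc C).obj J)).IsGE (a - c) :=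
  (CochainComplex.isGE_iff _ _).2 fun i hi => (exactAt_iff_isZero_homology _ i).2
    (isZero_of_isLE j J hJ hJ₀ u C c a i (by omega))

/-- A complex which is `≥ c` at the chart has a dual which is `≤ b - c` there. -/
theorem isLE_dual (C : CochainComplex X.Modules ℤ) (c b : ℤ) [((rC j).obj C).IsGE c]
    [J₀.IsStrictlyLE b] : ((rC j).obj ((Hc C).obj J)).IsLE (b - c) :=
  (CochainComplex.isLE_iff _ _).2 fun i hi => (exactAt_iff_isZero_homology _ i).2
    (isZero_of_isGE j J hJ hJ₀ u C c b i (by omega))

end Groth.Agent.Lib.Biduality.Chart
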