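import Groth.Agent.Lib.Biduality.Main
import Groth.Agent.Lib.Biduality.AffineCrit
import Groth.Agent.Lib.DMod.LBC

/-!
# Charts of a dualizing complex

On an affine open where the dualizing complex is `tilde` of a dualizing complex of the ring, a
K-injective representative is bounded injective up to quasi-isomorphism and biduality holds for `O`.
-/

set_option autoImplicit false
set_option linter.style.haveILetI false
set_option linter.unusedSectionVars false

universe u

open CategoryTheory Limits AlgebraicGeometry HomologicalComplex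

attribute [local instance] HasDerivedCategory.standard

noncomputable section

namespace Groth.Agent.Lib.Biduality.ChartBase

open Groth.Agent.Lib Groth.Agent.Lib.DerivedOX Groth.Agent.Lib.DR Groth.Agent.Lib.Modules
open DualHom DualQis DualFree DualBidual TrivCof LeftRes StalkModule Invariance TildeCompare AffineCrit
open Groth.Agent.Lib.Perfect Groth.Agent.Lib.Perfect.Basic

variable {X : Scheme.{u}}

/-- `O|_U ≅ O`, in degree zero. -/
def rCOne {U : Scheme.{u}} (j : U ⟶ X) [IsOpenImmersion j] : (rC j).obj (one X) ≅ one U :=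
  (HomologicalComplex.singleMapHomologicalComplex (Scheme.Modules.restrictFunctor j)
      (ComplexShape.up ℤ) 0).app (Coh.structureModule X) ≪≫
    (single U.Modules (ComplexShape.up ℤ) 0).mapIso (Scheme.Modules.restrictUnitIso j)

/-- An iso in the derived category between complexes gives a roof of quasi-isomorphisms. -/
theorem exists_roof {P Q : CochainComplex X.Modules ℤ}
    (e : DerivedCategory.Q.obj P ≅ DerivedCategory.Q.obj Q) :
    ∃ (B : CochainComplex X.Modules ℤ) (s : B ⟶ P) (g : B ⟶ Q), QuasiIso s ∧ QuasiIso g := by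
  obtain ⟨B, s, hs, g, hg⟩ := DerivedCategory.right_fac e.hom
  haveI : IsIso (inv (DerivedCategory.Q.map s) ≫ DerivedCategory.Q.map g) := hg ▸ inferInstance
  haveI : IsIso (DerivedCategory.Q.map g) :=
    IsIso.of_isIso_comp_left (inv (DerivedCategory.Q.map s)) _
  exact ⟨B, s, g, (DerivedCategory.isIso_Q_map_iff_quasiIso _ _).1 hs,
    (DerivedCategory.isIso_Q_map_iff_quasiIso _ _).1 inferInstance⟩

/-- Biduality for `O` restricted to a chart, from the criterion there. -/
theorem quasiIso_rC_bd_one {U : Scheme.{u}} (j : U ⟶ X) [IsOpenImmersion j]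
    (J : CochainComplex X.Modules ℤ) [J.IsKInjective] (hJ : InjTerms J)
    {P₀ : CochainComplex X.Modules ℤ} (a : P₀ ⟶ J) [QuasiIso a]
    (h : Crit ((rC j).obj P₀) ((rC j).obj J)) : QuasiIso ((rC j).map (bd J (one X))) := by
  let m₁ : J ⟶ (Hc (one X)).obj J := (adj (one X)).homEquiv _ _ (unitIso.inv.app J)
  haveI : QuasiIso m₁ := DualBidualPerfect.quasiIso_of_adjoint m₁
    (by rw [Equiv.symm_apply_apply]; infer_instance)
  haveI := quasiIso_pre hJ m₁
  haveI := quasiIso_pre hJ a
  have h₁ : bd J (one X) ≫ (pre m₁).app J = m (𝟙 J) := by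
    apply ((adj J).homEquiv _ _).symm.injective
    rw [homEquiv_symm_comp_pre, m, Equiv.symm_apply_apply]
    change (DCoh.tensorCx.obj (one X)).map m₁ ≫
      ((adj ((Hc (one X)).obj J)).homEquiv _ J).symm
        ((adj ((Hc (one X)).obj J)).homEquiv (one X) J
          (commT (one X) ((Hc (one X)).obj J) ≫ (adj (one X)).counit.app J)) = (lu J).hom ≫ 𝟙 J
    rw [Equiv.symm_apply_apply, reassoc_of% (commT_right (one X) m₁), Category.comp_id]
    have e : ((adj (one X)).homEquiv J J).symm m₁ = unitIso.inv.app J := Equiv.symm_apply_apply _ _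
    rw [Adjunction.homEquiv_counit] at e
    exact congrArg (commT (one X) J ≫ ·) e
  have h₂ : bd J (one X) ≫ (pre m₁).app J ≫ (pre a).app J = m a := by
    rw [← Category.assoc, h₁, m_pre, Category.comp_id]
  let ψ : (rC j).obj P₀ ≅ (rC j).obj P₀ := (lu ((rC j).obj P₀)).symm ≪≫
    (Tc ((rC j).obj P₀)).mapIso (rCOne j).symm ≪≫ Restrict.θ j (one X) P₀ ≪≫ (rC j).mapIso (lu P₀)
  haveI : QuasiIso ((rC j).map a) := inferInstance
  haveI := h (ψ.hom ≫ (rC j).map a) inferInstance
  have h₃ : (rC j).map (m a) ≫ Restrict.κ j P₀ J = (rCOne j).hom ≫ m (ψ.hom ≫ (rC j).map a) := by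
    apply ((adj ((rC j).obj P₀)).homEquiv _ _).symm.injective
    rw [Restrict.symm_rC_κ, m, m, Equiv.symm_apply_apply, Functor.map_comp,
      Adjunction.homEquiv_naturality_left_symm, Equiv.symm_apply_apply]
    simp only [ψ, Iso.trans_hom, Iso.symm_hom, Functor.mapIso_hom, Category.assoc,
      Iso.hom_inv_id_assoc, ← Functor.map_comp_assoc, Iso.hom_inv_id, CategoryTheory.Functor.map_id,
      Category.id_comp]
  haveI : QuasiIso ((rC j).map (m a) ≫ Restrict.κ j P₀ J) := by rw [h₃]; infer_instance
  haveI : QuasiIso ((rC j).map (m a)) := quasiIso_of_comp_right _ (Restrict.κ j P₀ J)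
  haveI : QuasiIso ((rC j).map ((pre m₁).app J ≫ (pre a).app J)) := inferInstance
  haveI : QuasiIso ((rC j).map (bd J (one X)) ≫ (rC j).map ((pre m₁).app J ≫ (pre a).app J)) := by
    rw [← Functor.map_comp, h₂]
    infer_instance
  exact quasiIso_of_comp_right _ ((rC j).map ((pre m₁).app J ≫ (pre a).app J))

section Affine

variable {A : Type u} [CommRing A] [IsNoetherianRing A]
  [PreservesFiniteLimits (tilde.functor (CommRingCat.of A))]
  (j : Spec (CommRingCat.of A) ⟶ X) [IsOpenImmersion j]
  (J : CochainComplex X.Modules ℤ) [J.IsKInjective] (hJ : InjTerms J)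
  {ω : Dual.D A} (hω : Dual.IsDualizing A ω)
  (e : DerivedCategory.Q.obj ((rC j).obj J) ≅ (DCoh.tildeD (CommRingCat.of A)).obj ω)

include hJ hω e

/-- The chart. -/
theorem exists_goodChart {x : X} (hx : x ∈ j.opensRange) :
    ∃ c : Main.GoodChart J x, ∀ i, Coh.IsCoh (c.J₀.homology i) := by
  obtain ⟨I, a, b, hb, hi, ⟨eI⟩⟩ := DMod.Biduality.exists_complex hω
  haveI : I.IsStrictlyGE a := (CochainComplex.isStrictlyGE_iff _ a).2 fun q hq => hb q (Or.inl hq)
  haveI : I.IsStrictlyLE b := (CochainComplex.isStrictlyLE_iff _ b).2 fun q hq => hb q (Or.inr hq)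
  have hω' : Dual.IsDualizing A (DerivedCategory.Q.obj I) :=
    DMod.LBC.isDualizing_of_iso eI.symm hω
  haveI := isKInjective_tC (R := CommRingCat.of A) a hi
  haveI := isStrictlyGE_tC (R := CommRingCat.of A) I a
  haveI := isStrictlyLE_tC (R := CommRingCat.of A) I b
  have hT : InjTerms ((tC (R := CommRingCat.of A)).obj I) := injTerms_tC hi
  let F := tilde.functor (CommRingCat.of A)
  haveI : PreservesColimitsOfSize.{u, u} F :=
    (tilde.adjunction (R := CommRingCat.of A)).leftAdjoint_preservesColimits
  haveI : PreservesColimitsOfSize.{0, 0} F := preservesColimitsOfSize_shrink.{0, u, 0, u} _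
  haveI : PreservesFiniteColimits F := PreservesColimitsOfSize.preservesFiniteColimits.{0, 0} _
  haveI : PreservesFiniteColimits (tilde.functor (CommRingCat.of A)) := ‹PreservesFiniteColimits F›
  haveI : PreservesBinaryBiproducts (tilde.functor (CommRingCat.of A)) :=
    preservesBinaryBiproducts_of_preservesBinaryCoproducts _
  haveI : (tilde.functor (CommRingCat.of A)).Additive :=
    Functor.additive_of_preservesBinaryBiproducts _
  haveI : (tilde.functor (CommRingCat.of A)).PreservesHomology :=
    preservesHomology_tilde (R := CommRingCat.of A)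
  let eJ : DerivedCategory.Q.obj ((rC j).obj J) ≅
      DerivedCategory.Q.obj ((tC (R := CommRingCat.of A)).obj I) :=
    e ≪≫ (DCoh.tildeD (CommRingCat.of A)).mapIso eI.symm ≪≫
      (tilde.functor (CommRingCat.of A)).mapDerivedCategoryFactors.app I
  obtain ⟨u, hu⟩ := (DualCompare.Q_map_bijective_aux (J := (tC (R := CommRingCat.of A)).obj I)).1 eJ.hom
  haveI : QuasiIso u := (DerivedCategory.isIso_Q_map_iff_quasiIso _ _).1 (hu ▸ inferInstance)
  haveI := Chart.isKInjective_rC j J
  let P₀ := (KFlat.res X).obj J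
  let q₀ : P₀ ⟶ J := (KFlat.aug X).app J
  haveI : QuasiIso q₀ := KFlat.quasiIso_aug J
  let P := (KProjRes.res A).obj I
  let q : P ⟶ I := (KProjRes.aug A).app I
  haveI : QuasiIso q := KProjRes.quasiIso_aug A I
  haveI : QuasiIso ((tC (R := CommRingCat.of A)).map q) := by
    haveI : (tilde.functor (CommRingCat.of A)).Full :=
      (tilde.fullyFaithfulFunctor (R := CommRingCat.of A)).full
    haveI : (tilde.functor (CommRingCat.of A)).Faithful :=
      (tilde.fullyFaithfulFunctor (R := CommRingCat.of A)).faithful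
    exact (quasiIso_map_iff_of_preservesHomology q (tilde.functor (CommRingCat.of A))).2 inferInstance
  obtain ⟨B, s, g, hs, hg⟩ := exists_roof
    (asIso (DerivedCategory.Q.map ((rC j).map q₀)) ≪≫ eJ ≪≫
      (asIso (DerivedCategory.Q.map ((tC (R := CommRingCat.of A)).map q))).symm)
  have hcrit := crit_of_qis (Chart.injTerms_rC j hJ) hT u s g
    (crit_tilde (R := CommRingCat.of A) a b hi hω')
  refine ⟨⟨Spec (CommRingCat.of A), j, (tC (R := CommRingCat.of A)).obj I, hT, a, b, u, hx,
    DualPerfect.qisAt_of_restrict j _ (quasiIso_rC_bd_one j J hJ q₀ hcrit)⟩, fun i => ?_⟩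
  haveI : Module.Finite (CommRingCat.of A) (I.homology i) :=
    (DMod.BidualityCx.finite_HD_Q_iff I i).1 (hω'.finite_cohomology i)
  exact isCoh_homology_tC (R := CommRingCat.of A) I i

end Affine

end Groth.Agent.Lib.Biduality.ChartBase
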