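import Groth.Agent.Lib.DerivedOX.DualQis
import Groth.Agent.Lib.DerivedOX.DualPerfect
import Groth.Agent.Lib.DerivedOX.DualBidual
import Groth.Agent.Lib.DerivedOX.PullTensor
import Groth.Agent.Lib.ExtShRestrict

/-!
# The internal Hom complex commutes with restriction to an open

For an open immersion `j` there is an isomorphism of complexes `Hc(P, J)|_U ≅ Hc(P|_U, J|_U)`, right
adjoint to the projection formula `j_!(G ⊗ P|_U) ≅ j_!G ⊗ P`.
-/

set_option autoImplicit false
set_option linter.style.haveILetI false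
set_option linter.unusedSectionVars false

universe u

open CategoryTheory Limits AlgebraicGeometry HomologicalComplex

noncomputable section

namespace Groth.Agent.Lib.Biduality.Restrict

open Groth.Agent.Lib Groth.Agent.Lib.DerivedOX Groth.Agent.Lib.Modules
open DualHom DualQis StalkModule
open Groth.Agent.Lib.Perfect.Basic Groth.Agent.Lib.Perfect.Pullback

variable {X U : Scheme.{u}} (j : U ⟶ X) [IsOpenImmersion j]

/-- `j_!` on complexes. -/
abbrev eC : CochainComplex U.Modules ℤ ⥤ CochainComplex X.Modules ℤ :=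
  (CxOX.extZero j).mapHomologicalComplex (ComplexShape.up ℤ)

/-- `j_! ⊣ j^*` on complexes. -/
abbrev adC : eC j ⊣ rC j := DerCat.DerAdj.adjC (CxOX.extZeroAdj j) (ComplexShape.up ℤ)

/-- An extension by zero has zero stalks outside the open. -/
theorem subsingleton_stalk_extZero (M : U.Modules) {x : X} (hx : x ∉ j.opensRange) :
    Subsingleton (((CxOX.extZero j).obj M).presheaf.stalk x) := by
  let V := j.opensRange
  let P := (CxOX.extZero j).obj M
  let F := ExtShRestrict.supFam V P
  let i := SubStalk.ι F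
  haveI : IsIso ((Scheme.Modules.restrictFunctor j).map i) :=
    Scheme.Modules.Hom.isIso_iff_isIso_app.2 fun W => (ConcreteCategory.isIso_iff_bijective _).2
      (ExtShRestrict.bijective_app_supFam V P (Scheme.Hom.image_le_opensRange j W))
  let r : P ⟶ SubStalk.subMod F :=
    ((CxOX.extZeroAdj j).homEquiv M _).symm
      ((CxOX.extZeroAdj j).unit.app M ≫ inv ((Scheme.Modules.restrictFunctor j).map i))
  have hr : r ≫ i = 𝟙 P := by
    apply ((CxOX.extZeroAdj j).homEquiv M P).injective
    rw [Adjunction.homEquiv_naturality_right, Equiv.apply_symm_apply, Adjunction.homEquiv_id,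
      Category.assoc, IsIso.inv_hom_id, Category.comp_id]
  refine subsingleton_of_forall_eq 0 fun a => ?_
  obtain ⟨W, hW, t, rfl⟩ := TopCat.Presheaf.exists_germ_eq P.presheaf a
  have h : i.app W (r.app W t) = t :=
    ConcreteCategory.congr_hom (congrArg (fun φ : P ⟶ P => φ.app W) hr) t
  have h' := SubStalk.ι_app_mem F W (r.app W t) x hW
  rw [show F x = ⊥ from if_neg hx, Submodule.mem_bot] at h'
  exact (congrArg _ h.symm).trans h'

/-- The stalks of `j_!G ⊗ P` vanish outside the open. -/
theorem isZero_stalk_tensor (G : CochainComplex U.Modules ℤ) (P : CochainComplex X.Modules ℤ) {x : X}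
    (hx : x ∉ j.opensRange) (n : ℤ) :
    IsZero (((St x).obj ((DCoh.tensorCx.obj ((eC j).obj G)).obj P)).X n) := by
  refine IsZero.of_iso ?_
    ((HomologicalComplex.eval _ _ n).mapIso (StalkCx.tensorIso x ((eC j).obj G) P)).symm
  rw [IsZero.iff_id_eq_zero]
  refine mapBifunctor.hom_ext fun p q h => IsZero.eq_of_src ?_ _ _
  haveI := subsingleton_stalk_extZero j (G.X p) hx
  have hz : IsZero ((stalkModFunctor X x).obj (((eC j).obj G).X p)) :=
    @ModuleCat.isZero_of_subsingleton _ _ _
      (inferInstanceAs (Subsingleton (((CxOX.extZero j).obj (G.X p)).presheaf.stalk x)))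
  exact ((MonoidalCategory.curriedTensor (ModuleCat.{u} (X.presheaf.stalk x))).flip.obj
    ((stalkModFunctor X x).obj (P.X q))).map_isZero hz

/-- `(H|_U) ⊗ (P|_U) ≅ (H ⊗ P)|_U`. -/
def θ (H P : CochainComplex X.Modules ℤ) :
    (DCoh.tensorCx.obj ((rC j).obj H)).obj ((rC j).obj P) ≅ (rC j).obj ((DCoh.tensorCx.obj H).obj P) :=
  (DCoh.tensorCx.mapIso ((rCIso j).app H)).app _ ≪≫
    (DCoh.tensorCx.obj ((pC j).obj H)).mapIso ((rCIso j).app P) ≪≫
    PullTensor.pullTensorIso j H P ≪≫ ((rCIso j).app _).symm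

theorem θ_natural {H H' : CochainComplex X.Modules ℤ} (φ : H ⟶ H') (P : CochainComplex X.Modules ℤ) :
    (DCoh.tensorCx.map ((rC j).map φ)).app ((rC j).obj P) ≫ (θ j H' P).hom =
      (θ j H P).hom ≫ (rC j).map ((DCoh.tensorCx.map φ).app P) := by
  haveI : PreservesColimitsOfSize.{u, u} (Scheme.Modules.pullback j) :=
    (Scheme.Modules.pullbackPushforwardAdjunction j).leftAdjoint_preservesColimits
  haveI : PreservesColimitsOfSize.{0, 0} (Scheme.Modules.pullback j) :=
    preservesColimitsOfSize_shrink.{0, u, 0, u} _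
  have h1 := congrArg (fun t => (DCoh.tensorCx.map t).app ((rC j).obj P)) ((rCIso j).hom.naturality φ)
  simp only [Functor.map_comp, NatTrans.comp_app] at h1
  have h2 := ((DCoh.tensorCx).map ((pC j).map φ)).naturality ((rCIso j).hom.app P)
  have h3 : (DCoh.tensorCx.map ((pC j).map φ)).app ((pC j).obj P) ≫ (PullTensor.pullTensorIso j H' P).hom =
      (PullTensor.pullTensorIso j H P).hom ≫ (pC j).map ((DCoh.tensorCx.map φ).app P) := by
    have h := BifunctorMap.totalIso_natural (PullTensor.pullComparison j) φ (𝟙 P)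
    rw [CategoryTheory.Functor.map_id] at h
    exact h
  have h4 := (rCIso j).inv.naturality ((DCoh.tensorCx.map φ).app P)
  simp only [θ, Iso.trans_hom, Iso.app_hom, Functor.mapIso_hom, Iso.symm_hom, Iso.app_inv,
    Category.assoc]
  rw [reassoc_of% h1, ← reassoc_of% h2, reassoc_of% h3, h4]

variable (P J : CochainComplex X.Modules ℤ)

/-- The restriction comparison. -/
def κ : (rC j).obj ((Hc P).obj J) ⟶ (Hc ((rC j).obj P)).obj ((rC j).obj J) :=
  (adj ((rC j).obj P)).homEquiv _ _ ((θ j ((Hc P).obj J) P).hom ≫ (rC j).map (ev P J))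

theorem symm_rC_κ {T : CochainComplex X.Modules ℤ} (φ : T ⟶ (Hc P).obj J) :
    ((adj ((rC j).obj P)).homEquiv _ _).symm ((rC j).map φ ≫ κ j P J) =
      (θ j T P).hom ≫ (rC j).map (((adj P).homEquiv _ _).symm φ) := by
  rw [Adjunction.homEquiv_naturality_left_symm, κ, Equiv.symm_apply_apply, Adjunction.homEquiv_counit]
  refine (Category.assoc _ _ _).symm.trans ((congrArg (· ≫ _) (θ_natural j φ P)).trans ?_)
  rw [Category.assoc, ← Functor.map_comp]
  rfl

/-- `j_!(G ⊗ P|_U) → j_!G ⊗ P`. -/
def δ (G : CochainComplex U.Modules ℤ) :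
    (eC j).obj ((DCoh.tensorCx.obj G).obj ((rC j).obj P)) ⟶ (DCoh.tensorCx.obj ((eC j).obj G)).obj P :=
  ((adC j).homEquiv _ _).symm
    ((DCoh.tensorCx.map ((adC j).unit.app G)).app ((rC j).obj P) ≫ (θ j ((eC j).obj G) P).hom)

theorem isIso_δ (G : CochainComplex U.Modules ℤ) : IsIso (δ j P G) := by
  have hu : ∀ K, IsIso ((adC j).unit.app K) := fun K => by
    haveI : ∀ k, IsIso (((adC j).unit.app K).f k) := fun k => DualPerfect.isIso_unit_extZeroAdj j (K.X k)
    exact HomologicalComplex.Hom.isIso_of_components _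
  haveI := hu G
  haveI := hu ((DCoh.tensorCx.obj G).obj ((rC j).obj P))
  have h : (adC j).unit.app _ ≫ (rC j).map (δ j P G) =
      (DCoh.tensorCx.map ((adC j).unit.app G)).app ((rC j).obj P) ≫ (θ j ((eC j).obj G) P).hom :=
    ((adC j).homEquiv_unit _ _ _).symm.trans (Equiv.apply_symm_apply _ _)
  haveI hr : IsIso ((rC j).map (δ j P G)) := IsIso.of_isIso_fac_left h
  haveI : ∀ n, IsIso ((δ j P G).f n) := fun n => by
    haveI : IsIso ((Scheme.Modules.restrictFunctor j).map ((δ j P G).f n)) :=
      inferInstanceAs (IsIso ((HomologicalComplex.eval _ _ n).map ((rC j).map (δ j P G))))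
    rw [Modules.Stalk.isIso_iff_stalk]
    intro x
    suffices IsIso ((stalkModFunctor X x).map ((δ j P G).f n)) from
      (ConcreteCategory.isIso_iff_bijective _).2
        ((ConcreteCategory.isIso_iff_bijective _).1 this :)
    by_cases hx : x ∈ j.opensRange
    · obtain ⟨y, rfl⟩ := hx
      let σ : X.presheaf.stalk (j y) ≃+* U.presheaf.stalk y :=
        (asIso (j.stalkMap y)).commRingCatIsoToRingEquiv
      let t := Perfect.Spread.stalkRestrictIso j y
      haveI hS : IsIso ((ModuleCat.restrictScalars.{u} σ.symm.toRingHom).map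
          ((stalkModFunctor X (j y)).map ((δ j P G).f n))) :=
        ((MorphismProperty.isomorphisms _).arrow_mk_iso_iff
          (Arrow.isoMk (t.app _) (t.app _) (t.hom.naturality ((δ j P G).f n)).symm)).2
          (Functor.map_isIso (stalkModFunctor U y)
            ((Scheme.Modules.restrictFunctor j).map ((δ j P G).f n)))
      exact isIso_of_reflects_iso _ (ModuleCat.restrictScalars.{u} σ.symm.toRingHom)
    · refine OpenSupport.isIso_of_zero _ ?_ (isZero_stalk_tensor j G P hx n)
      haveI := subsingleton_stalk_extZero j (((DCoh.tensorCx.obj G).obj ((rC j).obj P)).X n) hx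
      exact @ModuleCat.isZero_of_subsingleton _ _ _
        (inferInstanceAs (Subsingleton (((CxOX.extZero j).obj
          (((DCoh.tensorCx.obj G).obj ((rC j).obj P)).X n)).presheaf.stalk x)))
  exact HomologicalComplex.Hom.isIso_of_components _

instance isIso_κ : IsIso (κ j P J) := by
  refine isIso_of_yoneda_map_bijective _ fun G => ?_
  haveI := isIso_δ j P G
  let e : (G ⟶ (rC j).obj ((Hc P).obj J)) ≃ (G ⟶ (Hc ((rC j).obj P)).obj ((rC j).obj J)) :=
    ((adC j).homEquiv G ((Hc P).obj J)).symm.trans (((adj P).homEquiv _ J).symm.trans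
      ((asIso (δ j P G)).homFromEquiv.symm.trans
        (((adC j).homEquiv _ J).trans ((adj ((rC j).obj P)).homEquiv G ((rC j).obj J)))))
  have he : (fun ψ : G ⟶ (rC j).obj ((Hc P).obj J) => ψ ≫ κ j P J) = e := funext fun ψ => by
    obtain ⟨φ, rfl⟩ := ((adC j).homEquiv G ((Hc P).obj J)).surjective ψ
    apply ((adj ((rC j).obj P)).homEquiv G ((rC j).obj J)).symm.injective
    simp only [e, Equiv.trans_apply, Equiv.symm_apply_apply, Iso.homFromEquiv, Equiv.coe_fn_symm_mk,
      asIso_hom]
    rw [(adC j).homEquiv_unit, Category.assoc, Adjunction.homEquiv_naturality_left_symm]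
    refine (congrArg ((Tc ((rC j).obj P)).map ((adC j).unit.app G) ≫ ·) (symm_rC_κ j P J φ)).trans ?_
    rw [Adjunction.homEquiv_naturality_right, δ, Equiv.apply_symm_apply]
    exact (Category.assoc _ _ _).symm
  rw [he]
  exact e.bijective

end Groth.Agent.Lib.Biduality.Restrict
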