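import Groth.Agent.Lib.Biduality.Invariance
import Groth.Agent.Lib.Biduality.Restrict
import Mathlib.Algebra.Homology.BifunctorShift

/-!
# Evaluation `Hom(P, J) ⊗ P → J`: shifts, invariance and restriction
-/

set_option autoImplicit false
set_option linter.style.haveILetI false
set_option linter.unusedSectionVars false

universe u

open CategoryTheory Limits AlgebraicGeometry HomologicalComplex

attribute [local instance] HasDerivedCategory.standard

noncomputable section

namespace Groth.Agent.Lib.Biduality.EvShift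

open Groth.Agent.Lib Groth.Agent.Lib.DerivedOX Groth.Agent.Lib.Modules
open DualHom DualQis DualFree Invariance
open Groth.Agent.Lib.Perfect Groth.Agent.Lib.Perfect.Basic

variable {X : Scheme.{u}} {P T T' : CochainComplex X.Modules ℤ}

/-- The criterion gives an invertible evaluation. -/
theorem quasiIso_ev_of_crit (hP : DCoh.IsKFlat P) (r : P ⟶ T) [QuasiIso r] (h : Crit P T) :
    QuasiIso (ev P T) := by
  haveI := h r inferInstance
  haveI : QuasiIso ((Tc P).map (m r)) := LeftExists.quasiIso_tensor_right hP (m r)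
  haveI : QuasiIso ((Tc P).map (m r) ≫ ev P T) := by
    rw [← Adjunction.homEquiv_counit, m, Equiv.symm_apply_apply]
    infer_instance
  exact quasiIso_of_comp_left ((Tc P).map (m r)) _

/-- Invariance in the target. -/
theorem quasiIso_ev_of_qis (hP : DCoh.IsKFlat P) [T.IsKInjective] [T'.IsKInjective] (hT : InjTerms T)
    (hT' : InjTerms T') (u : T ⟶ T') [QuasiIso u] (h : QuasiIso (ev P T')) : QuasiIso (ev P T) := by
  haveI := quasiIso_Hc_map hT hT' u P
  haveI : QuasiIso ((Tc P).map ((Hc P).map u)) := LeftExists.quasiIso_tensor_right hP _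
  have e : (Tc P).map ((Hc P).map u) ≫ ev P T' = ev P T ≫ u := (adj P).counit.naturality u
  haveI : QuasiIso (ev P T ≫ u) := e ▸ quasiIso_comp _ _
  exact quasiIso_of_comp_right _ u

/-- `- ⊗ P` commutes with shifts. -/
instance commShift_Tc (P : CochainComplex X.Modules ℤ) : (Tc P).CommShift ℤ :=
  inferInstanceAs (((DCoh.tensorBi (X := X)).map₂CochainComplex.flip.obj P).CommShift ℤ)

/-- `Hom(P, -)` commutes with shifts. -/
instance commShift_Hc (P : CochainComplex X.Modules ℤ) : (Hc P).CommShift ℤ :=
  (adj P).rightAdjointCommShift ℤ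

/-- The internal Hom of a shift. -/
def hcShiftIso (P T : CochainComplex X.Modules ℤ) (n : ℤ) :
    (Hc P).obj (T⟦n⟧) ≅ ((Hc P).obj T)⟦n⟧ :=
  ((Hc P).commShiftIso n).app T

theorem quasiIso_of_iso_comp {A B C D : CochainComplex X.Modules ℤ} (f : A ⟶ D) (a : A ≅ B)
    (g : B ⟶ C) [QuasiIso g] (c : C ≅ D) (h : f = a.hom ≫ g ≫ c.hom) : QuasiIso f := by
  subst h
  infer_instance

/-- Shifts of the target. -/
theorem quasiIso_ev_shift (n : ℤ) (h : QuasiIso (ev P T)) : QuasiIso (ev P (T⟦n⟧)) := by
  haveI : (adj P).CommShift ℤ := (adj P).commShift_of_leftAdjoint ℤ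
  haveI := h
  haveI : QuasiIso ((ev P T)⟦n⟧') := inferInstance
  exact quasiIso_of_iso_comp _ (((Hc P ⋙ Tc P).commShiftIso n).app T) ((ev P T)⟦n⟧')
    (((𝟭 (CochainComplex X.Modules ℤ)).commShiftIso n).app T).symm
    (NatTrans.app_shift (adj P).counit n T)

/-- Restriction. -/
theorem quasiIso_rC_ev {U : Scheme.{u}} (j : U ⟶ X) [IsOpenImmersion j]
    (h : QuasiIso (ev ((rC j).obj P) ((rC j).obj T))) : QuasiIso ((rC j).map (ev P T)) := by
  have e := Restrict.symm_rC_κ j P T (𝟙 ((Hc P).obj T))
  rw [CategoryTheory.Functor.map_id, Category.id_comp, Adjunction.homEquiv_counit,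
    Adjunction.homEquiv_counit, CategoryTheory.Functor.map_id, Category.id_comp] at e
  haveI := h
  haveI : QuasiIso ((Restrict.θ j ((Hc P).obj T) P).hom ≫ (rC j).map (ev P T)) := by
    rw [← e]
    infer_instance
  exact quasiIso_of_comp_left (Restrict.θ j ((Hc P).obj T) P).hom _

end Groth.Agent.Lib.Biduality.EvShift
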