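import Groth.Agent.Lib.Biduality.Main

/-!
# `Hom(L, I) ⊗ P → Hom(Hom(P, L), I)`

For bounded complexes of injectives `L`, `I` the comparison is a quasi-isomorphism for every `P` bounded
above with coherent cohomology, as soon as `Hom(L, I)` is bounded above.
-/

set_option autoImplicit false
set_option linter.style.haveILetI false
set_option linter.unusedSectionVars false

universe u

open CategoryTheory Limits AlgebraicGeometry HomologicalComplex

attribute [local instance] HasDerivedCategory.standard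

noncomputable section

namespace Groth.Agent.Lib.Biduality.HomTensor

open Groth.Agent.Lib Groth.Agent.Lib.DerivedOX Groth.Agent.Lib.Modules
open DualHom DualQis DualExact DualFree DualBidual DualDevissage DualGood StalkModule TrivCof LeftRes Invariance
open Groth.Agent.Lib.Perfect Groth.Agent.Lib.Perfect.Basic

variable {X : Scheme.{u}} (L : CochainComplex X.Modules ℤ)

/-- Naturality of associativity in the left variable. -/
theorem assoc_left {T T' : CochainComplex X.Modules ℤ} (f : T ⟶ T') (B P : CochainComplex X.Modules ℤ) :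
    (DCoh.tensorCx.map ((DCoh.tensorCx.map f).app B)).app P ≫ (TensorAssoc.assocCx T' B P).hom =
      (TensorAssoc.assocCx T B P).hom ≫ (DCoh.tensorCx.map f).app ((DCoh.tensorCx.obj B).obj P) := by
  have h := DualAssoc.assocCx_natural f (𝟙 B) (𝟙 P)
  have h₂ : mapBifunctorMap (𝟙 B) (𝟙 P) (DCoh.tensorBi (X := X)) (.up ℤ) = 𝟙 _ :=
    (DCoh.tensorCx.obj B).map_id P
  rw [h₂] at h
  exact h

/-- `(T ⊗ O) ⊗ L ≅ T ⊗ L`, by associativity, naturally in `T`. -/
def ζ : Tc (one X) ⋙ Tc L ⟶ Tc L where
  app T := asc T (one X) L ≫ (DCoh.tensorCx.obj T).map (lu L).hom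
  naturality T T' f := by
    have h2 := (DCoh.tensorCx.map f).naturality (lu L).hom
    exact (Category.assoc _ _ _).symm.trans ((congrArg (· ≫ _) (assoc_left f (one X) L)).trans
      ((Category.assoc _ _ _).trans ((congrArg (_ ≫ ·) h2.symm).trans (Category.assoc _ _ _).symm)))


instance isIso_ζ : IsIso (ζ (X := X) L) := by
  haveI : ∀ T, IsIso ((ζ L).app T) := fun T => by
    haveI : IsIso (asc T (one X) L) :=
      inferInstanceAs (IsIso (TensorAssoc.assocCx T (one X) L).hom)
    exact inferInstanceAs (IsIso (asc T (one X) L ≫ (DCoh.tensorCx.obj T).map (lu L).hom))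
  exact NatIso.isIso_of_isIso_app _

variable {L} {I A' : CochainComplex X.Modules ℤ}

/-- The pairing `A' ⊗ L → I`, on `- ⊗ L`. -/
def cc (s : A' ⟶ (Hc L).obj I) : (Tc L).obj A' ⟶ I := ((adj L).homEquiv A' I).symm s

/-- The pairing `A' ⊗ L → I`. -/
def c (s : A' ⟶ (Hc L).obj I) : (DCoh.tensorCx.obj A').obj L ⟶ I := (cc s :)

theorem symm_comp_conj (s : A' ⟶ (Hc L).obj I) (α : Tc L ⟶ Tc L) :
    ((adj L).homEquiv A' I).symm (s ≫ (conjugateEquiv (adj L) (adj L) α).app I) = α.app A' ≫ cc s := by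
  have h5 := α.naturality s
  rw [cc, Adjunction.homEquiv_counit, Adjunction.homEquiv_counit, Functor.map_comp, Category.assoc,
    conjugateEquiv_counit, ← Category.assoc, h5, Category.assoc]

theorem asc_map_ev (n : one X ⟶ (Hc L).obj L) (h : (Tc L).map n ≫ ev L L = (lu L).hom)
    (d : (DCoh.tensorCx.obj A').obj L ⟶ I) :
    (Tc L).map ((DCoh.tensorCx.obj A').map n) ≫
        asc A' ((Hc L).obj L) L ≫ (DCoh.tensorCx.obj A').map ((adj L).counit.app L) ≫ d =
      (asc A' (one X) L ≫ (DCoh.tensorCx.obj A').map (lu L).hom) ≫ d := by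
  rw [reassoc_of% (asc_natural_mid A' n L), ← h, Functor.map_comp]
  simp only [Category.assoc]

variable (L) in
/-- The automorphism of `- ⊗ L` measuring the two unit isomorphisms. -/
def ξ : Tc (X := X) L ⟶ Tc L :=
  (Functor.leftUnitor _).inv ≫ Functor.whiskerRight unitIso.hom (Tc L) ≫ ζ L

variable (L A') in
theorem map_unitInv_ξ : (Tc L).map (unitIso.app A').inv ≫ (ξ L).app A' = (ζ L).app A' := by
  have h7 : (Tc L).map (unitIso.app A').inv ≫ (Tc L).map (unitIso.hom.app A') = 𝟙 _ := by
    rw [← Functor.map_comp]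
    simp
  have h8 : (ξ L).app A' = (Tc L).map (unitIso.hom.app A') ≫ (ζ L).app A' := Category.id_comp _
  rw [h8, reassoc_of% h7]

theorem ζ_app : (ζ L).app A' = asc A' (one X) L ≫ (DCoh.tensorCx.obj A').map (lu L).hom := rfl

/-- The comparison with `s` over the unit. -/
theorem key (s : A' ⟶ (Hc L).obj I) (n : one X ⟶ (Hc L).obj L) (h : (Tc L).map n ≫ ev L L = (lu L).hom) :
    (DCoh.tensorCx.obj A').map n ≫
        DualGood.Abstract.psi (DCoh.tensorCx (X := X)) Hc adj asc (c s) L =
      (unitIso.app A').inv ≫ s ≫ (conjugateEquiv (adj L) (adj L) (ξ L)).app I := by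
  apply ((adj L).homEquiv _ _).symm.injective
  rw [Adjunction.homEquiv_naturality_left_symm, DualGood.Abstract.homEquiv_symm_psi,
    Adjunction.homEquiv_naturality_left_symm]
  refine (asc_map_ev n h (c s)).trans ?_
  have h1 := map_unitInv_ξ L A'
  have h2 := symm_comp_conj s (ξ L)
  refine Eq.trans ?_ (congrArg ((Tc L).map (unitIso.app A').inv ≫ ·) h2.symm)
  exact (congrArg (· ≫ cc s) (ζ_app (L := L) (A' := A')).symm).trans
    ((congrArg (· ≫ cc s) h1.symm).trans (Category.assoc _ _ _))

instance isIso_ξ : IsIso (ξ (X := X) L) := by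
  haveI : IsIso (Functor.whiskerRight (unitIso (X := X)).hom (Tc L)) := inferInstance
  exact inferInstanceAs (IsIso (_ ≫ _ ≫ _))


variable (s : A' ⟶ (Hc L).obj I)

/-- The comparison. -/
def φ (P : CochainComplex X.Modules ℤ) :
    (DCoh.tensorCx.obj A').obj P ⟶ (Hc ((Hc P).obj L)).obj I :=
  (DCoh.tensorCx.obj A').map (bd L P) ≫
    DualGood.Abstract.psi (DCoh.tensorCx (X := X)) Hc adj asc (c s) ((Hc P).obj L)

theorem psi_natural {W' W : CochainComplex X.Modules ℤ} (a : W' ⟶ W) :
    (DCoh.tensorCx.obj A').map ((pre a).app L) ≫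
        DualGood.Abstract.psi (DCoh.tensorCx (X := X)) Hc adj asc (c s) W' =
      DualGood.Abstract.psi (DCoh.tensorCx (X := X)) Hc adj asc (c s) W ≫ (pre a).app I :=
  DualGood.Abstract.psi_natural (DCoh.tensorCx (X := X)) Hc adj asc (c s)
    (fun f P => asc_natural_mid A' f P) (fun B _ _ a => asc_natural_right A' B a) a

theorem φ_natural {P' P : CochainComplex X.Modules ℤ} (a : P' ⟶ P) :
    φ s P' ≫ (pre ((pre a).app L)).app I = (DCoh.tensorCx.obj A').map a ≫ φ s P := by
  rw [φ, φ, Category.assoc, ← psi_natural, ← Functor.map_comp_assoc, bd_natural, Functor.map_comp,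
    Category.assoc]

theorem quasiIso_φ_one [QuasiIso s] [L.IsKInjective] [I.IsKInjective] (hI : InjTerms I) :
    QuasiIso (φ s (one X)) := by
  let m₁ : L ⟶ (Hc (one X)).obj L := (adj (one X)).homEquiv _ _ (unitIso.inv.app L)
  haveI : QuasiIso m₁ := DualBidualPerfect.quasiIso_of_adjoint m₁
    (by rw [Equiv.symm_apply_apply]; infer_instance)
  haveI := quasiIso_pre hI m₁
  have h₁ : bd L (one X) ≫ (pre m₁).app L = m (𝟙 L) := by
    apply ((adj L).homEquiv _ _).symm.injective
    rw [homEquiv_symm_comp_pre, m, Equiv.symm_apply_apply]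
    change (DCoh.tensorCx.obj (one X)).map m₁ ≫
      ((adj ((Hc (one X)).obj L)).homEquiv _ L).symm
        ((adj ((Hc (one X)).obj L)).homEquiv (one X) L
          (commT (one X) ((Hc (one X)).obj L) ≫ (adj (one X)).counit.app L)) = (lu L).hom ≫ 𝟙 L
    rw [Equiv.symm_apply_apply, reassoc_of% (commT_right (one X) m₁), Category.comp_id]
    have e : ((adj (one X)).homEquiv L L).symm m₁ = unitIso.inv.app L := Equiv.symm_apply_apply _ _
    rw [Adjunction.homEquiv_counit] at e
    exact congrArg (commT (one X) L ≫ ·) e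
  let μ := (conjugateEquiv (adj L) (adj L) (ξ L)).app I
  haveI : IsIso μ := inferInstance
  have h₂ : φ s (one X) ≫ (pre m₁).app I = (unitIso.app A').inv ≫ s ≫ μ := by
    rw [φ, Category.assoc, ← psi_natural, ← Functor.map_comp_assoc, h₁]
    refine key s (m (𝟙 L)) ?_
    rw [← Adjunction.homEquiv_counit, m, Equiv.symm_apply_apply, Category.comp_id]
  haveI : QuasiIso (φ s (one X) ≫ (pre m₁).app I) := by rw [h₂]; infer_instance
  exact quasiIso_of_comp_right _ ((pre m₁).app I)

variable [L.IsKInjective] [I.IsKInjective] (hL : InjTerms L) (hI : InjTerms I)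
  (hA : DCoh.IsKFlat A') (hA' : FlatTerms A')

include hL hI hA hA'

theorem φ_two_of_three {V : X.Opens} {S : ShortComplex (CochainComplex X.Modules ℤ)} (hS : S.ShortExact) :
    (QisAt V (φ s S.X₁) → QisAt V (φ s S.X₂) → QisAt V (φ s S.X₃)) ∧
      (QisAt V (φ s S.X₁) → QisAt V (φ s S.X₃) → QisAt V (φ s S.X₂)) ∧
        (QisAt V (φ s S.X₂) → QisAt V (φ s S.X₃) → QisAt V (φ s S.X₁)) := by
  haveI : PreservesBinaryBiproducts ((DCoh.tensorCx (X := X)).obj A') :=
    preservesBinaryBiproducts_of_preservesBinaryCoproducts _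
  haveI : ((DCoh.tensorCx (X := X)).obj A').Additive := Functor.additive_of_preservesBinaryBiproducts _
  exact qisAt_two_of_three
    (ShortComplex.homMk (S₁ := S.map ((DCoh.tensorCx (X := X)).obj A'))
      (S₂ := hcSC (hcSC S L) I) (φ s S.X₁) (φ s S.X₂) (φ s S.X₃)
      (φ_natural s S.f) (φ_natural s S.g))
    (shortExact_tensor_mk hA' S.f S.g S.zero hS _) (shortExact_hcSC' (shortExact_hcSC' hS hL) hI)

/-- The dévissage predicate. -/
theorem isDevissable [QuasiIso s] :
    IsDevissable (X := X) fun V P => QisAt V (φ s P) where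
  inv V P' P a ha _ _ := by
    have h₂ := qisAt_pre hI _ (qisAt_pre hL a ha)
    have hT : QisAt V ((DCoh.tensorCx.obj A').map a) := ha.tensor hA
    constructor
    · intro h
      refine h₂.of_comp_right ?_
      rw [φ_natural]
      exact hT.comp h
    · intro h
      refine hT.of_comp_left ?_
      rw [← φ_natural]
      exact h.comp h₂
  two V S σ _ _ _ := φ_two_of_three s hL hI hA hA'
    (HomologicalComplex.shortExact_of_degreewise_shortExact S fun n => (σ n).some.shortExact)
  zero V P hP := by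
    have hz : ∀ Q : CochainComplex X.Modules ℤ, IsZero Q → ∀ J' : CochainComplex X.Modules ℤ,
        IsZero ((Hc Q).obj J') := fun Q hQ J' => SchColim29.RHomLocal.isZero_Hc hQ J'
    haveI : PreservesBinaryBiproducts ((DCoh.tensorCx (X := X)).obj A') :=
      preservesBinaryBiproducts_of_preservesBinaryCoproducts _
    haveI : ((DCoh.tensorCx (X := X)).obj A').Additive := Functor.additive_of_preservesBinaryBiproducts _
    haveI := OpenSupport.isIso_of_zero (φ s P) (((DCoh.tensorCx (X := X)).obj A').map_isZero hP)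
      (hz _ (hz _ hP L) I)
    exact QisAt.of_quasiIso _
  one V := haveI := quasiIso_φ_one s hI; QisAt.of_quasiIso _

/-- The comparison for bounded above complexes with coherent cohomology. -/
theorem quasiIso_φ [IsLocallyNoetherian X] [QuasiIso s] (bA aL bI : ℤ)
    (hA₀ : ∀ i, bA < i → IsZero (A'.X i)) [L.IsStrictlyGE aL] [I.IsStrictlyLE bI]
    (P : CochainComplex X.Modules ℤ) (d : ℤ) [P.IsLE d] (hP : ∀ i, Coh.IsCoh (P.homology i)) :
    QuasiIso (φ s P) := by
  refine (Qis.quasiIso_iff_forall_stalk _).2 fun x => ⟨fun n => ?_⟩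
  rw [quasiIsoAt_iff_isIso_homologyMap]
  let m : ℤ := n - 1 - max 0 (max bA (bI - aL))
  haveI : (DerivedCategory.Q.obj P).IsLE d := (DerivedCategory.isLE_Q_obj_iff P d).2 inferInstance
  have hpc : PseudoCoh.PCAt m (DerivedCategory.Q.obj P) x :=
    Perfect.PCCoh.pcAt_of_coh m (d + 1 - m).toNat (DerivedCategory.Q.obj P) d (by omega) inferInstance
      (fun i _ _ => CohBasics.Closure.isCoh_of_iso
        ((DerivedCategory.homologyFunctorFactors X.Modules i).app P).symm (hP i)) x
  obtain ⟨W, k, _, E', α, hxW, hE', ⟨p, q, hpq⟩, hι⟩ := Model.exists_model_near hpc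
  let C := CochainComplex.mappingCone α
  let S := LocalTor.Split.coneSeq α
  let C' := C.truncLE (m - 1)
  have hS : S.ShortExact := HomologicalComplex.shortExact_of_degreewise_shortExact _
    fun i => (LocalTor.Split.coneSplitting α i).shortExact
  have hdev := isDevissable s hL hI hA hA'
  have hE : QisAt k.opensRange (φ s (E'⟦(1 : ℤ)⟧)) := by
    refine DualDevissage.of_terms hdev (E'⟦(1 : ℤ)⟧) (fun i => ?_) (fun i => ?_) q
      ((q + 1 - p).toNat) fun i hi => hpq (i + 1) (by omega)
    · obtain ⟨r, ⟨e⟩⟩ := hE' (i + 1)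
      exact flatIn_of_iso e (flatIn_extZero_free k r)
    · obtain ⟨r, ⟨e⟩⟩ := hE' (i + 1)
      exact DualDevissage.of_iso hdev ((single X.Modules (ComplexShape.up ℤ) i).mapIso e)
        (adm_single (flatIn_of_iso e (flatIn_extZero_free k r)) i)
        (adm_single (flatIn_extZero_free k r) i) (DualDevissage.extZero_free hdev k r i)
  have hC'ex : ∀ i, m ≤ i → C'.ExactAt i := fun i hi =>
    HomologicalComplex.ExactAt.of_isZero (C'.isZero_of_isStrictlyLE (m - 1) i (by omega))
  have hst : ∀ {K : CochainComplex X.Modules ℤ} (i : ℤ), K.ExactAt i → ((St x).obj K).ExactAt i :=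
    fun {K} i h => (exactAt_iff _ i).2 (((exactAt_iff _ i).1 h).map (stalkModFunctor X x))
  have h₁ : ∀ i, m + bA ≤ i → ((St x).obj ((DCoh.tensorCx.obj A').obj C)).ExactAt i := fun i hi =>
    (Main.exactAt_of_qisAt (hι.tensor hA) hxW i).1
      (hst i (LocalTor.Coherent.exactAt_tensor' A' C' m bA hC'ex hA₀ hA i (by omega)))
  haveI : ((Hc C').obj L).IsGE (aL - m + 1) := (CochainComplex.isGE_iff _ _).2 fun i hi =>
    (exactAt_iff_isZero_homology _ i).2 (SchColim29.RHomLocal.isZero_homology_Hc C' (m - 1) aL i (by omega))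
  have h₂ : ∀ i, bI - aL + m ≤ i → ((St x).obj ((Hc ((Hc C).obj L)).obj I)).ExactAt i := fun i hi =>
    (Main.exactAt_of_qisAt (qisAt_pre hI _ (qisAt_pre hL _ hι)) hxW i).1
      (hst i ((exactAt_iff_isZero_homology _ i).2
        (SchColim29.RHomFid.isZero_homology_Hc_of_isGE hI _ (aL - m + 1) bI i (by omega))))
  haveI : PreservesBinaryBiproducts ((DCoh.tensorCx (X := X)).obj A') :=
    preservesBinaryBiproducts_of_preservesBinaryCoproducts _
  haveI : ((DCoh.tensorCx (X := X)).obj A').Additive := Functor.additive_of_preservesBinaryBiproducts _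
  let T := hcSC (hcSC S L) I
  let Φ : S.map ((DCoh.tensorCx (X := X)).obj A') ⟶ T := ShortComplex.homMk (φ s S.X₁) (φ s S.X₂)
    (φ s S.X₃) (φ_natural s S.f) (φ_natural s S.g)
  have s₁ := shortExact_stalk (shortExact_tensor_mk hA' S.f S.g S.zero hS
    (by rw [← Functor.map_comp, S.zero, Functor.map_zero])) x
  have s₂ := shortExact_stalk (shortExact_hcSC' (shortExact_hcSC' hS hL) hI) x
  have key : ∀ {R : ShortComplex (CochainComplex (ModuleCat.{u} (X.presheaf.stalk x)) ℤ)}
      (hR : R.ShortExact), R.X₂.ExactAt (n - 1) → R.X₂.ExactAt n →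
        IsIso (hR.δ (n - 1) n (by simp)) := fun {R} hR e₁ e₂ => by
    haveI : Mono (hR.δ (n - 1) n (by simp)) :=
      (hR.homology_exact₃ (n - 1) n (by simp)).mono_g (e₁.isZero_homology.eq_of_src _ _)
    haveI : Epi (hR.δ (n - 1) n (by simp)) :=
      (hR.homology_exact₁ (n - 1) n (by simp)).epi_f (e₂.isZero_homology.eq_of_tgt _ _)
    exact isIso_of_mono_of_epi _
  haveI := key s₁ (h₁ (n - 1) (by omega)) (h₁ n (by omega))
  have k₂ := key s₂ (h₂ (n - 1) (by omega)) (h₂ n (by omega))
  have hn := HomologicalComplex.HomologySequence.δ_naturality ((St x).mapShortComplex.map Φ) s₁ s₂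
    (n - 1) n (by simp)
  have h : IsIso (homologyMap ((St x).map (φ s S.X₃)) (n - 1)) :=
    (quasiIsoAt_iff_isIso_homologyMap _ _).1 ((hE x hxW).quasiIsoAt (n - 1))
  have h5 : IsIso (s₁.δ (n - 1) n (by simp) ≫ homologyMap ((St x).map (φ s S.X₁)) n) := by
    have h6 : s₁.δ (n - 1) n (by simp) ≫ homologyMap ((St x).map (φ s S.X₁)) n =
        homologyMap ((St x).map (φ s S.X₃)) (n - 1) ≫ s₂.δ (n - 1) n (by simp) := hn
    exact h6.symm ▸ @IsIso.comp_isIso' _ _ _ _ _ _ _ h k₂
  exact @IsIso.of_isIso_comp_left _ _ _ _ _ (s₁.δ (n - 1) n _) _ _ h5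

end Groth.Agent.Lib.Biduality.HomTensor
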