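import Groth.Agent.Lib.DualSch.Trivial
import Groth.Agent.S12440

/-!
# Dualizing complexes on an affine scheme differ by a shift near every point
-/

set_option autoImplicit false
set_option linter.style.haveILetI false

universe u

open CategoryTheory CategoryTheory.Limits AlgebraicGeometry

attribute [local instance] HasDerivedCategory.standard

noncomputable section

namespace Groth.Agent.Lib.Biduality.LocalShift

open Groth.Agent.Lib Perfect.Basic

variable {A : Type u} [CommRing A] [PreservesFiniteLimits (tilde.functor (CommRingCat.of A))]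

/-- A scalar is invertible on `tilde` away from its zeros. -/
theorem isIso_smul (K : Dual.D A) (a : A) (V : (Spec (CommRingCat.of A)).Opens)
    (hV : ∀ q ∈ V, a ∉ (q : PrimeSpectrum A).asIdeal) :
    IsIso ((RD V.ι).map ((DCoh.tildeD (CommRingCat.of A)).map (a • 𝟙 K))) := by
  let R := CommRingCat.of A
  haveI : PreservesColimitsOfSize.{u, u} (tilde.functor R) :=
    (tilde.adjunction (R := R)).leftAdjoint_preservesColimits
  haveI : PreservesColimitsOfSize.{0, 0} (tilde.functor R) :=
    preservesColimitsOfSize_shrink.{0, u, 0, u} _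
  haveI : PreservesFiniteColimits (tilde.functor R) :=
    PreservesColimitsOfSize.preservesFiniteColimits.{0, 0} _
  haveI : PreservesBinaryBiproducts (tilde.functor R) :=
    preservesBinaryBiproducts_of_preservesBinaryCoproducts _
  haveI : (tilde.functor R).Additive := Functor.additive_of_preservesBinaryBiproducts _
  let E := DerivedCategory.Q.objPreimage K
  let e : DerivedCategory.Q.obj E ≅ K := DerivedCategory.Q.objObjPreimageIso K
  suffices h : IsIso ((RD V.ι).map ((DCoh.tildeD R).map (DerivedCategory.Q.map (a • 𝟙 E)))) by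
    have e1 : a • 𝟙 K = e.inv ≫ DerivedCategory.Q.map (a • 𝟙 E) ≫ e.hom := by
      rw [Functor.map_smul, CategoryTheory.Functor.map_id, Linear.smul_comp, Category.id_comp,
        Linear.comp_smul, Iso.inv_hom_id]
    rw [e1, Functor.map_comp, Functor.map_comp, Functor.map_comp, Functor.map_comp]
    infer_instance
  haveI hf : IsIso ((rC V.ι).map
      (((tilde.functor R).mapHomologicalComplex (ComplexShape.up ℤ)).map (a • 𝟙 E))) := by
    haveI : ∀ n, IsIso (((rC V.ι).map
        (((tilde.functor R).mapHomologicalComplex (ComplexShape.up ℤ)).map (a • 𝟙 E))).f n) := fun n => by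
      refine DualSch.Trivial.isIso_restrict_tilde R ((a • 𝟙 E).f n) V (fun q hq => ?_) (fun q hq => ?_)
      · refine Module.notMem_support_iff'.2 fun m => ⟨a, hV q hq, Subtype.ext ?_⟩
        exact m.2
      · refine Module.notMem_support_iff'.2 fun m => ⟨a, hV q hq, ?_⟩
        obtain ⟨y, rfl⟩ := Submodule.Quotient.mk_surjective _ m
        exact (Submodule.Quotient.mk_smul _ _ _).symm.trans ((Submodule.Quotient.mk_eq_zero _).2 ⟨y, rfl⟩)
    exact HomologicalComplex.Hom.isIso_of_components _
  let F₁ := (tilde.functor R).mapDerivedCategoryFactors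
  let F₂ := (Scheme.Modules.restrictFunctor V.ι).mapDerivedCategoryFactors
  let T := ((tilde.functor R).mapHomologicalComplex (ComplexShape.up ℤ)).map (a • 𝟙 E)
  have h1 : (DCoh.tildeD R).map (DerivedCategory.Q.map (a • 𝟙 E)) ≫ F₁.hom.app E =
      F₁.hom.app E ≫ DerivedCategory.Q.map T := F₁.hom.naturality (a • 𝟙 E)
  have h2 : (RD V.ι).map (DerivedCategory.Q.map T) ≫ F₂.hom.app _ =
      F₂.hom.app _ ≫ DerivedCategory.Q.map ((rC V.ι).map T) := F₂.hom.naturality T
  haveI : IsIso ((rC V.ι).map T) := hf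
  haveI : IsIso ((RD V.ι).map (DerivedCategory.Q.map T) ≫ F₂.hom.app _) := by
    rw [h2]; infer_instance
  haveI : IsIso ((RD V.ι).map (DerivedCategory.Q.map T)) := IsIso.of_isIso_comp_right _ (F₂.hom.app _)
  haveI : IsIso ((RD V.ι).map ((DCoh.tildeD R).map (DerivedCategory.Q.map (a • 𝟙 E))) ≫
      (RD V.ι).map (F₁.hom.app E)) := by
    rw [← Functor.map_comp, h1, Functor.map_comp]
    infer_instance
  exact IsIso.of_isIso_comp_right _ ((RD V.ι).map (F₁.hom.app E))

variable [IsNoetherianRing A]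

/-- Near every prime two dualizing complexes differ by a shift. -/
theorem exists_nhd {ω ω' : Dual.D A} (hω : Dual.IsDualizing A ω) (hω' : Dual.IsDualizing A ω')
    (p : PrimeSpectrum A) :
    ∃ (f : A) (m : ℤ) (V : (Spec (CommRingCat.of A)).Opens),
      V = PrimeSpectrum.basicOpen f ∧ f ∉ p.asIdeal ∧ Nonempty
      ((RD V.ι).obj ((DCoh.tildeD (CommRingCat.of A)).obj (ω'⟦m⟧)) ≅
        (RD V.ι).obj ((DCoh.tildeD (CommRingCat.of A)).obj ω)) := by
  obtain ⟨m, y, g, a, h, ha⟩ := Groth.Agent.S12440.exists_local ω ω' hω hω' p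
  obtain ⟨c, hc⟩ := hω.toEnd_bijective.2 (g ≫ y)
  have h1 : a * a = c * a := (DMod.Gorenstein.isDualizing_shift hω' m).toEnd_bijective.1 (
    calc (a * a) • 𝟙 (ω'⟦m⟧) = (y ≫ g) ≫ (y ≫ g) := by rw [h]; simp [smul_smul]
      _ = y ≫ (g ≫ y) ≫ g := by simp only [Category.assoc]
      _ = (c * a) • 𝟙 (ω'⟦m⟧) := by rw [← hc]; simp [h, smul_smul])
  have hcp : c ∉ p.asIdeal := fun hh =>
    (p.isPrime.mem_or_mem (h1 ▸ p.asIdeal.mul_mem_right a hh : a * a ∈ p.asIdeal)).elim ha ha
  let V : (Spec (CommRingCat.of A)).Opens := PrimeSpectrum.basicOpen (a * c)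
  refine ⟨a * c, m, V, rfl, fun hh => (p.isPrime.mem_or_mem hh).elim ha hcp, ?_⟩
  let F := fun {K L : Dual.D A} (z : K ⟶ L) => (RD V.ι).map ((DCoh.tildeD (CommRingCat.of A)).map z)
  have hm : ∀ {K L M : Dual.D A} (z : K ⟶ L) (w : L ⟶ M), F (z ≫ w) = F z ≫ F w := fun z w => by
    simp only [F, Functor.map_comp]
  haveI h₁ : IsIso (F y ≫ F g) := by
    rw [← hm, h]
    exact isIso_smul _ a V fun q hq hq' => hq (Ideal.mul_mem_right c _ hq')
  haveI h₂ : IsIso (F g ≫ F y) := by
    rw [← hm, ← hc]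
    exact isIso_smul _ c V fun q hq hq' => hq (Ideal.mul_mem_left _ a hq')
  haveI : IsSplitMono (F y) := IsSplitMono.mk' ⟨F g ≫ inv (F y ≫ F g), by
    rw [← Category.assoc, IsIso.hom_inv_id]⟩
  haveI : Epi (F y) := epi_of_epi (F g) (F y)
  haveI : IsIso (F y) := isIso_of_epi_of_isSplitMono _
  exact ⟨asIso (F y)⟩

end Groth.Agent.Lib.Biduality.LocalShift
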