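import Groth.Agent.Lib.SchColim29.RHomLocal

/-!
# Local models of pseudo-coherent complexes

Near a point of pseudo-coherence a complex receives a map from a bounded complex of extensions by
zero of free modules whose cone is, near the point, concentrated in low degrees.
-/

set_option autoImplicit false
set_option linter.style.haveILetI false

universe u

open CategoryTheory CategoryTheory.Limits AlgebraicGeometry HomologicalComplex

attribute [local instance] HasDerivedCategory.standard

namespace Groth.Agent.Lib.Biduality.Model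

open Groth.Agent.Lib Groth.Agent.Lib.DerivedOX
open DualHom DualQis DualExact DualFree DualPerfect TrivCof LeftRes
open Groth.Agent.Lib.Perfect Groth.Agent.Lib.Perfect.Basic Groth.Agent.Lib.Perfect.PseudoCoh
open Groth.Agent.Lib.Perfect.Pullback

variable {X : Scheme.{u}}

theorem exists_model_near {P : CochainComplex X.Modules ℤ} {m : ℤ} {x : X}
    (hP : PCAt m (DerivedCategory.Q.obj P) x) :
    ∃ (W : Scheme.{u}) (j : W ⟶ X) (_ : IsOpenImmersion j) (E' : CochainComplex X.Modules ℤ)
      (α : E' ⟶ P), x ∈ j.opensRange ∧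
        (∀ i, ∃ k : ℕ, Nonempty (E'.X i ≅ (CxOX.extZero j).obj (FlatMod.freeMod W k))) ∧
        (∃ p q : ℤ, ∀ i, (i < p ∨ q < i) → IsZero (E'.X i)) ∧
        QisAt j.opensRange ((CochainComplex.mappingCone α).ιTruncLE (m - 1)) := by
  obtain ⟨U, j₀, _, y, E₀, φ₀, hy, hE₀, hcone⟩ := LocalTor.Coherent.exists_model P m x hP
  obtain ⟨W, ν, hyW, -, hν⟩ := EulerChar.exists_free_terms hE₀ y
  let j := W.ι ≫ j₀
  let E := (rC W.ι).obj E₀
  let φ : E ⟶ (rC j).obj P :=
    (rC W.ι).map (φ₀ ≫ ((rCIso j₀).app P).inv) ≫ (rCComp W.ι j₀).inv.app P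
  let ad := DerCat.DerAdj.adjC (CxOX.extZeroAdj j) (ComplexShape.up ℤ)
  let α := (ad.homEquiv E P).symm φ
  let E' := ((CxOX.extZero j).mapHomologicalComplex (ComplexShape.up ℤ)).obj E
  let C := CochainComplex.mappingCone α
  have hCex : ∀ i, m ≤ i → ((rC j).obj C).ExactAt i := fun i hi => by
    let e : CochainComplex.mappingCone φ₀ ≅ CochainComplex.mappingCone (φ₀ ≫ ((rCIso j₀).app P).inv) :=
      { hom := CochainComplex.mappingCone.map φ₀ _ (𝟙 _) ((rCIso j₀).app P).inv (by simp)
        inv := CochainComplex.mappingCone.map _ φ₀ (𝟙 _) ((rCIso j₀).app P).hom (by simp)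
        hom_inv_id := by
          rw [← CochainComplex.mappingCone.map_comp]
          simp only [Category.comp_id, Iso.inv_hom_id]
          exact CochainComplex.mappingCone.map_id _
        inv_hom_id := by
          rw [← CochainComplex.mappingCone.map_comp]
          simp only [Category.comp_id, Iso.hom_inv_id]
          exact CochainComplex.mappingCone.map_id _ }
    have h1 : ((rC W.ι).obj (CochainComplex.mappingCone (φ₀ ≫ ((rCIso j₀).app P).inv))).ExactAt i :=
      Lift2.exactAt_map W.ι ((hcone i hi).of_iso e)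
    have hα : ad.unit.app E ≫ (rC j).map α = φ :=
      (ad.homEquiv_unit _ _ _).symm.trans ((ad.homEquiv E P).apply_symm_apply φ)
    haveI : IsIso (ad.unit.app E) := by
      haveI : ∀ k, IsIso ((ad.unit.app E).f k) := fun k => isIso_unit_extZeroAdj j (E.X k)
      exact HomologicalComplex.Hom.isIso_of_components _
    let e' : CochainComplex.mappingCone ((rC W.ι).map (φ₀ ≫ ((rCIso j₀).app P).inv)) ≅
        CochainComplex.mappingCone ((rC j).map α) :=
      { hom := CochainComplex.mappingCone.map _ _ (ad.unit.app E) ((rCComp W.ι j₀).inv.app P) hα.symm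
        inv := CochainComplex.mappingCone.map _ _ (inv (ad.unit.app E)) ((rCComp W.ι j₀).hom.app P) (by
          have h2 := congrArg (fun t => inv (ad.unit.app E) ≫ t ≫ (rCComp W.ι j₀).hom.app P) hα
          simpa [φ, E] using h2)
        hom_inv_id := by
          rw [← CochainComplex.mappingCone.map_comp]
          simp only [IsIso.hom_inv_id, Iso.inv_hom_id_app]
          exact CochainComplex.mappingCone.map_id _
        inv_hom_id := by
          rw [← CochainComplex.mappingCone.map_comp]
          simp only [IsIso.inv_hom_id, Iso.hom_inv_id_app]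
          exact CochainComplex.mappingCone.map_id _ }
    exact h1.of_iso (CochainComplex.mappingCone.mapHomologicalComplexIso _ _ ≪≫ e' ≪≫
      (CochainComplex.mappingCone.mapHomologicalComplexIso α (Scheme.Modules.restrictFunctor j)).symm)
  let V := j.opensRange
  have hι : QisAt V (C.ιTruncLE (m - 1)) := qisAt_of_restrict j _
    ((quasiIso_iff _).2 fun k => by
      by_cases hk : k ≤ m - 1
      · haveI := C.quasiIsoAt_ιTruncLE (m - 1) k hk
        infer_instance
      · have h1 : (C.truncLE (m - 1)).ExactAt k :=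
          HomologicalComplex.ExactAt.of_isZero ((C.truncLE (m - 1)).isZero_of_isStrictlyLE (m - 1) k (by omega))
        exact (quasiIsoAt_iff_exactAt _ k (Lift2.exactAt_map j h1)).2 (hCex k (by omega)))
  obtain ⟨⟨p, q, hpq⟩, -⟩ := hE₀
  exact ⟨_, j, inferInstance, E', α, ⟨⟨y, hyW⟩, hy⟩,
    fun i => ⟨_, ⟨(CxOX.extZero j).mapIso (hν i).some⟩⟩,
    ⟨p, q, fun i hi => (CxOX.extZero j).map_isZero ((Scheme.Modules.restrictFunctor W.ι).map_isZero
      (hpq i hi))⟩, hι⟩

end Groth.Agent.Lib.Biduality.Model
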