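import Groth.Agent.Lib.Biduality.Chart
import Groth.Agent.Lib.Biduality.Model
import Groth.Agent.Lib.DerivedOX.DualBidualPerfect
import Groth.Agent.Lib.PCoh.Cone

/-!
# Biduality for complexes with coherent cohomology

If near every point the complex `J` is a bounded complex of injectives and `O → Hom(Hom(O,J),J)` is
a quasi-isomorphism, then `L → Hom(Hom(L,J),J)` is one for every `L` with coherent cohomology: a
pseudo-coherent approximation or a truncation changes neither side in a given degree.
-/

set_option autoImplicit false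
set_option linter.style.haveILetI false
set_option linter.unusedSectionVars false

universe u

open CategoryTheory Limits AlgebraicGeometry HomologicalComplex

attribute [local instance] HasDerivedCategory.standard

noncomputable section

namespace Groth.Agent.Lib.Biduality.Main

open Groth.Agent.Lib Groth.Agent.Lib.DerivedOX Groth.Agent.Lib.Modules
open DualHom DualQis DualExact DualBidual DualDevissage StalkModule
open Groth.Agent.Lib.Perfect Groth.Agent.Lib.Perfect.Basic

variable {X : Scheme.{u}} (J : CochainComplex X.Modules ℤ)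

/-- A chart at `x` on which `J` is bounded injective and biduality holds for `O`. -/
structure GoodChart (x : X) where
  /-- The chart. -/
  U : Scheme.{u}
  /-- The inclusion. -/
  j : U ⟶ X
  [openImm : IsOpenImmersion j]
  /-- The bounded model. -/
  J₀ : CochainComplex U.Modules ℤ
  inj : InjTerms J₀
  [kinj : J₀.IsKInjective]
  /-- The lower bound. -/
  a : ℤ
  /-- The upper bound. -/
  b : ℤ
  [ge : J₀.IsStrictlyGE a]
  [le : J₀.IsStrictlyLE b]
  /-- The comparison. -/
  u : (rC j).obj J ⟶ J₀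
  [qis : QuasiIso u]
  mem : x ∈ j.opensRange
  base : QisAt j.opensRange (bd J (DualFree.one X))

attribute [instance] GoodChart.openImm GoodChart.kinj GoodChart.ge GoodChart.le GoodChart.qis

variable {J} [J.IsKInjective] (hJ : InjTerms J)
include hJ

/-- Where two outer terms are invisible the connecting map transports biduality. -/
theorem isIso_of_five {S : ShortComplex (CochainComplex X.Modules ℤ)} (hS : S.ShortExact) (x : X) (n : ℤ)
    (h₁ : ((St x).obj S.X₂).ExactAt (n - 1)) (h₂ : ((St x).obj S.X₂).ExactAt n)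
    (h₃ : ((St x).obj ((Hc ((Hc S.X₂).obj J)).obj J)).ExactAt (n - 1))
    (h₄ : ((St x).obj ((Hc ((Hc S.X₂).obj J)).obj J)).ExactAt n)
    (h : IsIso (homologyMap ((St x).map (bd J S.X₃)) (n - 1))) :
    IsIso (homologyMap ((St x).map (bd J S.X₁)) n) := by
  let T := hcSC (hcSC S J) J
  let φ : S ⟶ T := ShortComplex.homMk (bd J S.X₁) (bd J S.X₂) (bd J S.X₃)
    (bd_natural J S.f) (bd_natural J S.g)
  have s₁ := shortExact_stalk hS x
  have s₂ := shortExact_stalk (shortExact_hcSC' (shortExact_hcSC' hS hJ) hJ) x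
  have key : ∀ {R : ShortComplex (CochainComplex (ModuleCat.{u} (X.presheaf.stalk x)) ℤ)}
      (hR : R.ShortExact), R.X₂.ExactAt (n - 1) → R.X₂.ExactAt n →
        IsIso (hR.δ (n - 1) n (by simp)) := fun {R} hR e₁ e₂ => by
    haveI : Mono (hR.δ (n - 1) n (by simp)) :=
      (hR.homology_exact₃ (n - 1) n (by simp)).mono_g (e₁.isZero_homology.eq_of_src _ _)
    haveI : Epi (hR.δ (n - 1) n (by simp)) :=
      (hR.homology_exact₁ (n - 1) n (by simp)).epi_f (e₂.isZero_homology.eq_of_tgt _ _)
    exact isIso_of_mono_of_epi _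
  haveI := key s₁ h₁ h₂
  have k₂ := key s₂ h₃ h₄
  have hn := HomologicalComplex.HomologySequence.δ_naturality ((St x).mapShortComplex.map φ) s₁ s₂
    (n - 1) n (by simp)
  have h5 : IsIso (s₁.δ (n - 1) n (by simp) ≫ homologyMap ((St x).map (bd J S.X₁)) n) := by
    have h6 : s₁.δ (n - 1) n (by simp) ≫ homologyMap ((St x).map (bd J S.X₁)) n =
        homologyMap ((St x).map (bd J S.X₃)) (n - 1) ≫ s₂.δ (n - 1) n (by simp) := hn
    exact h6.symm ▸ @IsIso.comp_isIso' _ _ _ _ _ _ _ h k₂
  exact @IsIso.of_isIso_comp_left _ _ _ _ _ (s₁.δ (n - 1) n _) _ _ h5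

omit hJ in
/-- Exactness transported along a quasi-isomorphism at the point. -/
theorem exactAt_of_qisAt {V : X.Opens} {K L : CochainComplex X.Modules ℤ} {f : K ⟶ L} (hf : QisAt V f)
    {x : X} (hx : x ∈ V) (n : ℤ) : ((St x).obj K).ExactAt n ↔ ((St x).obj L).ExactAt n := by
  haveI := hf x hx
  exact exactAt_iff_of_quasiIsoAt ((St x).map f) n

/-- The dévissage predicate near a chart. -/
theorem isDevissable {x : X} (c : GoodChart J x) :
    IsDevissable (X := X) fun V P => BD J (V ⊓ c.j.opensRange) P where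
  inv V _ _ a ha _ _ := bd_iff_of_qisAt hJ a (ha.mono inf_le_left)
  two V S σ _ _ _ := bd_two_of_three hJ
    (HomologicalComplex.shortExact_of_degreewise_shortExact S fun n => (σ n).some.shortExact)
  zero V P hP := by
    have hz : ∀ Q : CochainComplex X.Modules ℤ, IsZero Q → ∀ J' : CochainComplex X.Modules ℤ,
        IsZero ((Hc Q).obj J') := fun Q hQ J' =>
      SchColim29.RHomLocal.isZero_Hc hQ J'
    haveI := OpenSupport.isIso_of_zero (bd J P) hP (hz _ (hz _ hP J) J)
    exact QisAt.of_quasiIso _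
  one V := c.base.mono inf_le_right

/-- Bounded above complexes with coherent cohomology. -/
theorem isIso_bd_of_isLE [IsLocallyNoetherian X] {x : X} (c : GoodChart J x)
    (P : CochainComplex X.Modules ℤ) (d : ℤ) [P.IsLE d] (hP : ∀ i, Coh.IsCoh (P.homology i)) (n : ℤ) :
    IsIso (homologyMap ((St x).map (bd J P)) n) := by
  let m : ℤ := n - 1 - max 0 (c.b - c.a)
  haveI : (DerivedCategory.Q.obj P).IsLE d := (DerivedCategory.isLE_Q_obj_iff P d).2 inferInstance
  have hpc : PseudoCoh.PCAt m (DerivedCategory.Q.obj P) x :=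
    Perfect.PCCoh.pcAt_of_coh m (d + 1 - m).toNat (DerivedCategory.Q.obj P) d (by omega) inferInstance
      (fun i _ _ => CohBasics.Closure.isCoh_of_iso
        ((DerivedCategory.homologyFunctorFactors X.Modules i).app P).symm (hP i)) x
  obtain ⟨W, k, _, E', α, hxW, hE', ⟨p, q, hpq⟩, hι⟩ := Model.exists_model_near hpc
  let C := CochainComplex.mappingCone α
  let S := LocalTor.Split.coneSeq α
  let C' := C.truncLE (m - 1)
  have hS : S.ShortExact := HomologicalComplex.shortExact_of_degreewise_shortExact _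
    fun i => (LocalTor.Split.coneSplitting α i).shortExact
  have hE : QisAt (k.opensRange ⊓ c.j.opensRange) (bd J (E'⟦(1 : ℤ)⟧)) := by
    refine DualDevissage.of_terms (isDevissable hJ c) (E'⟦(1 : ℤ)⟧) (fun i => ?_) (fun i => ?_) q
      ((q + 1 - p).toNat) fun i hi => hpq (i + 1) (by omega)
    · obtain ⟨r, ⟨e⟩⟩ := hE' (i + 1)
      exact flatIn_of_iso e (flatIn_extZero_free k r)
    · obtain ⟨r, ⟨e⟩⟩ := hE' (i + 1)
      exact DualDevissage.of_iso (isDevissable hJ c) ((single X.Modules (ComplexShape.up ℤ) i).mapIso e)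
        (adm_single (flatIn_of_iso e (flatIn_extZero_free k r)) i)
        (adm_single (flatIn_extZero_free k r) i) (DualDevissage.extZero_free (isDevissable hJ c) k r i)
  have hdd : QisAt k.opensRange ((pre ((pre (C.ιTruncLE (m - 1))).app J)).app J) :=
    qisAt_pre hJ _ (qisAt_pre hJ _ hι)
  have hC : ∀ i, m ≤ i → ((St x).obj C).ExactAt i := fun i hi =>
    (exactAt_of_qisAt hι hxW i).1 (HomologicalComplex.ExactAt.of_isZero
      ((stalkModFunctor X x).map_isZero (C'.isZero_of_isStrictlyLE (m - 1) i (by omega))))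
  haveI : ((rC c.j).obj C').IsLE (m - 1) := (CochainComplex.isLE_iff _ _).2 fun i hi =>
    HomologicalComplex.ExactAt.of_isZero ((Scheme.Modules.restrictFunctor c.j).map_isZero
      (C'.isZero_of_isStrictlyLE (m - 1) i hi))
  haveI := Chart.isGE_dual c.j J hJ c.inj c.u C' (m - 1) c.a
  have hDD : ∀ i, m + (c.b - c.a) ≤ i → ((St x).obj ((Hc ((Hc C).obj J)).obj J)).ExactAt i :=
    fun i hi => (exactAt_of_qisAt hdd hxW i).1 (Chart.exactAt_St c.j _ i
      (Chart.isZero_of_isGE c.j J hJ c.inj c.u ((Hc C').obj J) (c.a - (m - 1)) c.b i (by omega)) c.mem)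
  refine isIso_of_five hJ hS x n (hC _ (by omega)) (hC _ (by omega)) (hDD _ (by omega)) (hDD _ (by omega)) ?_
  exact (quasiIsoAt_iff_isIso_homologyMap _ _).1 ((hE x ⟨hxW, c.mem⟩).quasiIsoAt (n - 1))

/-- Complexes with coherent cohomology. -/
theorem isIso_bd [IsLocallyNoetherian X] {x : X} (c : GoodChart J x)
    (P : CochainComplex X.Modules ℤ) (hP : ∀ i, Coh.IsCoh (P.homology i)) (n : ℤ) :
    IsIso (homologyMap ((St x).map (bd J P)) n) := by
  let t : ℤ := n + 1 + max 0 (c.b - c.a)
  let ι := P.ιTruncLE t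
  let C := CochainComplex.mappingCone ι
  let P' := (P.truncLE t)⟦(1 : ℤ)⟧
  let S := LocalTor.Split.coneSeq ι
  have hS : S.ShortExact := HomologicalComplex.shortExact_of_degreewise_shortExact _
    fun i => (LocalTor.Split.coneSplitting ι i).shortExact
  haveI : C.IsGE t := (C.isGE_iff t).2 fun i hi => by
    haveI := P.quasiIsoAt_ιTruncLE t i (by omega)
    haveI := P.quasiIsoAt_ιTruncLE t (i + 1) (by omega)
    exact PCoh.Cone.exactAt_of_epi_of_mono ι i (i + 1) rfl
  let eP' : ∀ i, P'.homology i ≅ (P.truncLE t).homology (i + 1) := fun i =>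
    ((HomologicalComplex.homologyFunctor X.Modules (ComplexShape.up ℤ) 0).shiftIso (1 : ℤ) i (i + 1)
      (add_comm 1 i)).app (P.truncLE t)
  have hz : ∀ i, t < i + 1 → IsZero (P'.homology i) := fun i hi =>
    (HomologicalComplex.ExactAt.isZero_homology (HomologicalComplex.ExactAt.of_isZero
      ((P.truncLE t).isZero_of_isStrictlyLE t (i + 1) hi))).of_iso (eP' i)
  haveI : P'.IsLE (t - 1) := (P'.isLE_iff (t - 1)).2 fun i hi =>
    (HomologicalComplex.exactAt_iff_isZero_homology _ _).2 (hz i (by omega))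
  have hP' : ∀ i, Coh.IsCoh (P'.homology i) := fun i => by
    by_cases hi : i + 1 ≤ t
    · haveI := P.quasiIsoAt_ιTruncLE t (i + 1) hi
      exact CohBasics.Closure.isCoh_of_iso
        (eP' i ≪≫ isoOfQuasiIsoAt (P.ιTruncLE t) (i + 1)).symm (hP (i + 1))
    · exact SchColim29.CohPush.isCoh_of_isZero (hz i (by omega))
  have hC : ∀ i, i < t → ((St x).obj C).ExactAt i := fun i hi =>
    (exactAt_iff _ i).2 (((exactAt_iff _ i).1 ((C.isGE_iff t).1 inferInstance i hi)).map
      (stalkModFunctor X x))
  haveI : ((rC c.j).obj C).IsGE t := (CochainComplex.isGE_iff _ _).2 fun i hi =>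
    (exactAt_iff _ i).2 (((exactAt_iff _ i).1 ((C.isGE_iff t).1 inferInstance i hi)).map
      (Scheme.Modules.restrictFunctor c.j))
  haveI := Chart.isLE_dual c.j J hJ c.inj c.u C t c.b
  have hDD : ∀ i, i < t - (c.b - c.a) → ((St x).obj ((Hc ((Hc C).obj J)).obj J)).ExactAt i :=
    fun i hi => Chart.exactAt_St c.j _ i
      (Chart.isZero_of_isLE c.j J hJ c.inj c.u ((Hc C).obj J) (c.b - t) c.a i (by omega)) c.mem
  exact isIso_of_five hJ hS x n (hC _ (by omega)) (hC _ (by omega)) (hDD _ (by omega)) (hDD _ (by omega))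
    (isIso_bd_of_isLE hJ c P' (t - 1) hP' (n - 1))

/-- **Biduality** for complexes with coherent cohomology. -/
theorem quasiIso_bd [IsLocallyNoetherian X] (hc : ∀ x : X, Nonempty (GoodChart J x))
    (P : CochainComplex X.Modules ℤ) (hP : ∀ i, Coh.IsCoh (P.homology i)) : QuasiIso (bd J P) :=
  (Qis.quasiIso_iff_forall_stalk _).2 fun x => ⟨fun n =>
    (quasiIsoAt_iff_isIso_homologyMap _ n).2 (isIso_bd hJ (hc x).some P hP n)⟩

end Groth.Agent.Lib.Biduality.Main
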