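import Groth.Agent.Lib.Biduality.ChartBase
import Groth.Agent.Lib.Biduality.EvShift
import Groth.Agent.Lib.Biduality.LocalShift
import Groth.Prelude.Def_DualSch
import Groth.Prelude.Def_Dual3

/-!
# Uniqueness of dualizing complexes up to an invertible object
-/

set_option autoImplicit false
set_option linter.style.haveILetI false
set_option linter.unusedSectionVars false

universe u

open CategoryTheory Limits AlgebraicGeometry HomologicalComplex

attribute [local instance] HasDerivedCategory.standard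

noncomputable section

namespace Groth.Agent.Lib.Biduality.Unique

open Groth.Agent.Lib Groth.Agent.Lib.DerivedOX Groth.Agent.Lib.DR Groth.Agent.Lib.Modules
open DualHom DualQis DualFree TrivCof LeftRes Invariance TildeCompare AffineCrit
open Groth.Agent.Lib.Perfect Groth.Agent.Lib.Perfect.Basic Groth.Agent.Lib.Perfect.Triangle Groth.Agent.Lib.Perfect.Pullback

variable {X : Scheme.{u}}

section Affine

variable {A : Type u} [CommRing A] [IsNoetherianRing A]
  [PreservesFiniteLimits (tilde.functor (CommRingCat.of A))]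
  (j : Spec (CommRingCat.of A) ⟶ X) [IsOpenImmersion j]
  (J : CochainComplex X.Modules ℤ) [J.IsKInjective] (hJ : InjTerms J)
  (P₀ : CochainComplex X.Modules ℤ) (hP₀ : DCoh.IsKFlat ((rC j).obj P₀))
  {ω : Dual.D A} (hω : Dual.IsDualizing A ω)
  (e : DerivedCategory.Q.obj ((rC j).obj P₀) ≅ (DCoh.tildeD (CommRingCat.of A)).obj ω)
  (n : ℤ) (e' : DerivedCategory.Q.obj ((rC j).obj J) ≅ (DerivedCategory.Q.obj ((rC j).obj P₀))⟦n⟧)

include hJ hP₀ hω e e'

/-- Evaluation is invertible and the internal Hom is a shift of `O` on the chart. -/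
theorem chart : QuasiIso ((rC j).map (ev P₀ J)) ∧
    Nonempty ((RD j).obj (DerivedCategory.Q.obj ((Hc P₀).obj J)) ≅
      (DCoh.inD (Spec (CommRingCat.of A)) (Coh.structureModule (Spec (CommRingCat.of A))))⟦n⟧) := by
  obtain ⟨I, a, b, hb, hi, ⟨eI⟩⟩ := DMod.Biduality.exists_complex hω
  haveI : I.IsStrictlyGE a := (CochainComplex.isStrictlyGE_iff _ a).2 fun q hq => hb q (Or.inl hq)
  haveI : I.IsStrictlyLE b := (CochainComplex.isStrictlyLE_iff _ b).2 fun q hq => hb q (Or.inr hq)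
  have hω' : Dual.IsDualizing A (DerivedCategory.Q.obj I) := DMod.LBC.isDualizing_of_iso eI.symm hω
  haveI := isKInjective_tC (R := CommRingCat.of A) a hi
  have hT : InjTerms ((tC (R := CommRingCat.of A)).obj I) := injTerms_tC hi
  let F := tilde.functor (CommRingCat.of A)
  haveI : PreservesColimitsOfSize.{u, u} F :=
    (tilde.adjunction (R := CommRingCat.of A)).leftAdjoint_preservesColimits
  haveI : PreservesColimitsOfSize.{0, 0} F := preservesColimitsOfSize_shrink.{0, u, 0, u} _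
  haveI : PreservesFiniteColimits F := PreservesColimitsOfSize.preservesFiniteColimits.{0, 0} _
  haveI : PreservesFiniteColimits (tilde.functor (CommRingCat.of A)) := ‹PreservesFiniteColimits F›
  haveI : PreservesBinaryBiproducts (tilde.functor (CommRingCat.of A)) :=
    preservesBinaryBiproducts_of_preservesBinaryCoproducts _
  haveI : (tilde.functor (CommRingCat.of A)).Additive :=
    Functor.additive_of_preservesBinaryBiproducts _
  haveI : (tilde.functor (CommRingCat.of A)).PreservesHomology :=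
    preservesHomology_tilde (R := CommRingCat.of A)
  haveI : (tilde.functor (CommRingCat.of A)).Full :=
    (tilde.fullyFaithfulFunctor (R := CommRingCat.of A)).full
  haveI : (tilde.functor (CommRingCat.of A)).Faithful :=
    (tilde.fullyFaithfulFunctor (R := CommRingCat.of A)).faithful
  let tI := (tC (R := CommRingCat.of A)).obj I
  let eT : DerivedCategory.Q.obj ((rC j).obj P₀) ≅ DerivedCategory.Q.obj tI :=
    e ≪≫ (DCoh.tildeD (CommRingCat.of A)).mapIso eI.symm ≪≫
      (tilde.functor (CommRingCat.of A)).mapDerivedCategoryFactors.app I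
  obtain ⟨r, hr⟩ := (DualCompare.Q_map_bijective_aux (J := tI)).1 eT.hom
  haveI : QuasiIso r := (DerivedCategory.isIso_Q_map_iff_quasiIso _ _).1 (hr ▸ inferInstance)
  let P := (KProjRes.res A).obj I
  let q : P ⟶ I := (KProjRes.aug A).app I
  haveI : QuasiIso q := KProjRes.quasiIso_aug A I
  haveI : QuasiIso ((tC (R := CommRingCat.of A)).map q) :=
    (quasiIso_map_iff_of_preservesHomology q (tilde.functor (CommRingCat.of A))).2 inferInstance
  obtain ⟨B, s, g, hs, hg⟩ := ChartBase.exists_roof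
    (eT ≪≫ (asIso (DerivedCategory.Q.map ((tC (R := CommRingCat.of A)).map q))).symm)
  have hcrit : Crit ((rC j).obj P₀) tI :=
    crit_of_qis hT hT (𝟙 tI) s g (crit_tilde (R := CommRingCat.of A) a b hi hω')
  haveI := hcrit r inferInstance
  haveI := Chart.isKInjective_rC j J
  have hTn : InjTerms (tI⟦n⟧) := fun k => hT (k + n)
  obtain ⟨u, hu⟩ := (DualCompare.Q_map_bijective_aux (J := tI⟦n⟧)).1
    (e' ≪≫ (shiftFunctor _ n).mapIso eT ≪≫ ((DerivedCategory.Q.commShiftIso n).app tI).symm).hom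
  haveI : QuasiIso u := (DerivedCategory.isIso_Q_map_iff_quasiIso _ _).1 (hu ▸ inferInstance)
  have hev := EvShift.quasiIso_ev_of_qis hP₀ (Chart.injTerms_rC j hJ) hTn u
    (EvShift.quasiIso_ev_shift n (EvShift.quasiIso_ev_of_crit hP₀ r hcrit))
  refine ⟨EvShift.quasiIso_rC_ev j hev, ⟨?_⟩⟩
  haveI := quasiIso_Hc_map (Chart.injTerms_rC j hJ) hTn u ((rC j).obj P₀)
  exact RDQ j _ ≪≫ asIso (DerivedCategory.Q.map (Restrict.κ j P₀ J)) ≪≫
    asIso (DerivedCategory.Q.map ((Hc ((rC j).obj P₀)).map u)) ≪≫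
    DerivedCategory.Q.mapIso (EvShift.hcShiftIso ((rC j).obj P₀) tI n) ≪≫
    (DerivedCategory.Q.commShiftIso n).app _ ≪≫
    (shiftFunctor _ n).mapIso ((asIso (DerivedCategory.Q.map (m r))).symm ≪≫
      ((DerivedCategory.singleFunctorIsoCompQ (Spec (CommRingCat.of A)).Modules 0).app _).symm)

end Affine

variable [IsLocallyNoetherian X]
  [∀ (U V : Scheme.{u}) (j : U ⟶ V) [IsOpenImmersion j],
    PreservesFiniteLimits (Scheme.Modules.restrictFunctor j)]
  [∀ (R : CommRingCat.{u}), PreservesFiniteLimits (tilde.functor R)]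

/-- A chart on which two dualizing complexes differ by a shift. -/
theorem exists_chart {K K' : DCoh.D X} (hK : Dual2.IsDualizingSch X K) (hK' : Dual2.IsDualizingSch X K')
    (x : X) : ∃ (A : Type u) (_ : CommRing A) (_ : IsNoetherianRing A)
      (j : Spec (CommRingCat.of A) ⟶ X) (_ : IsOpenImmersion j) (n : ℤ), x ∈ j.opensRange ∧
        Nonempty ((RD j).obj K' ≅ ((RD j).obj K)⟦n⟧) := by
  obtain ⟨V₀, hV₀, hxV, -⟩ := exists_isAffineOpen_mem_and_subset (show x ∈ (⊤ : X.Opens) from trivial)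
  haveI : IsNoetherianRing Γ(X, V₀) := IsLocallyNoetherian.component_noetherian ⟨V₀, hV₀⟩
  obtain ⟨ω, hω, ⟨eω⟩⟩ := hK Γ(X, V₀) hV₀.fromSpec
  obtain ⟨ω', hω', ⟨eω'⟩⟩ := hK' Γ(X, V₀) hV₀.fromSpec
  obtain ⟨p, hp⟩ : x ∈ hV₀.fromSpec.opensRange := by rwa [hV₀.opensRange_fromSpec]
  obtain ⟨f, m, V, rfl, hf, ⟨ε⟩⟩ := LocalShift.exists_nhd hω hω' p
  let V : (Spec (CommRingCat.of Γ(X, V₀))).Opens := PrimeSpectrum.basicOpen f
  haveI : IsAffine (V : Scheme.{u}) := IsAffineOpen.Spec_basicOpen f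
  let k : (V : Scheme.{u}) ⟶ X := V.ι ≫ hV₀.fromSpec
  haveI : IsLocallyNoetherian (V : Scheme.{u}) := isLocallyNoetherian_of_isOpenImmersion k
  haveI : IsNoetherianRing Γ((V : Scheme.{u}), ⊤) :=
    IsLocallyNoetherian.component_noetherian ⟨⊤, isAffineOpen_top _⟩
  refine ⟨Γ((V : Scheme.{u}), ⊤), inferInstance, inferInstance,
    (V : Scheme.{u}).isoSpec.inv ≫ k, inferInstance, -m, ?_, ⟨?_⟩⟩
  · obtain ⟨y, hy⟩ : (p : ↥(Spec (CommRingCat.of Γ(X, V₀)))) ∈ Set.range V.ι := by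
      rw [Scheme.Opens.range_ι]; exact hf
    refine ⟨(V : Scheme.{u}).isoSpec.hom y, ?_⟩
    change ((V : Scheme.{u}).isoSpec.inv ≫ k) ((V : Scheme.{u}).isoSpec.hom y) = x
    rw [← Scheme.Hom.comp_apply, Iso.hom_inv_id_assoc, ← hp]
    exact congrArg hV₀.fromSpec hy
  · let i := (V : Scheme.{u}).isoSpec.inv
    let e₁ : ((RD k).obj K')⟦m⟧ ≅ (RD k).obj K :=
      (shiftFunctor _ m).mapIso (RDComp V.ι hV₀.fromSpec K' ≪≫ (RD V.ι).mapIso eω') ≪≫
        (((RD V.ι).commShiftIso m).app _).symm ≪≫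
        (RD V.ι).mapIso (((DCoh.tildeD (CommRingCat.of Γ(X, V₀))).commShiftIso m).app ω').symm ≪≫ ε ≪≫
        ((RDComp V.ι hV₀.fromSpec K ≪≫ (RD V.ι).mapIso eω)).symm
    exact RDComp i k K' ≪≫ (RD i).mapIso (((shiftFunctorCompIsoId _ m (-m) (by omega)).app _).symm ≪≫
        (shiftFunctor _ (-m)).mapIso e₁) ≪≫ ((RD i).commShiftIso (-m)).app _ ≪≫
      (shiftFunctor _ (-m)).mapIso (RDComp i k K).symm

/-- Dualizing complexes differ by an invertible object. -/
theorem exists_invertible {K K' : DCoh.D X} (hK : Dual2.IsDualizingSch X K)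
    (hK' : Dual2.IsDualizingSch X K') :
    ∃ (E : CochainComplex X.Modules ℤ) (hL : DCoh.HasLTensorCx E),
      Dual3.IsInvertibleD (DCoh.toD X E) ∧ Nonempty (K' ≅ (DCoh.LTensorCx E).obj K) := by
  let P₁ := DerivedCategory.Q.objPreimage K
  let P₀ := (KFlat.res X).obj P₁
  haveI : QuasiIso ((KFlat.aug X).app P₁) := KFlat.quasiIso_aug P₁
  let eP : DerivedCategory.Q.obj P₀ ≅ K :=
    asIso (DerivedCategory.Q.map ((KFlat.aug X).app P₁)) ≪≫ DerivedCategory.Q.objObjPreimageIso K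
  obtain ⟨J, i₀, h₀, q₀, -, hJ⟩ :=
    DerCat.KInjExists.exists_kInjective_resolution (DerivedCategory.Q.objPreimage K')
  haveI := h₀
  haveI := q₀
  let eJ : DerivedCategory.Q.obj J ≅ K' :=
    (asIso (DerivedCategory.Q.map i₀)).symm ≪≫ DerivedCategory.Q.objObjPreimageIso K'
  have key : ∀ x : X, ∃ (A : Type u) (_ : CommRing A) (j : Spec (CommRingCat.of A) ⟶ X)
      (_ : IsOpenImmersion j) (n : ℤ), x ∈ j.opensRange ∧ QuasiIso ((rC j).map (ev P₀ J)) ∧
      Nonempty ((RD j).obj (DerivedCategory.Q.obj ((Hc P₀).obj J)) ≅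
        (DCoh.inD (Spec (CommRingCat.of A)) (Coh.structureModule (Spec (CommRingCat.of A))))⟦n⟧) := by
    intro x
    obtain ⟨A, _, _, j, _, n, hx, ⟨e⟩⟩ := exists_chart hK hK' x
    obtain ⟨ω, hω, ⟨eω⟩⟩ := hK A j
    have hflat : DCoh.IsKFlat ((rC j).obj P₀) := (KFlatStalk.isKFlat_iff_stalk _).2 fun y =>
      StalkCx.isKFlat_of_iso ((St y).mapIso ((rCIso j).app P₀).symm)
        ((KFlatStalk.isKFlat_iff_stalk _).1
          (KFlatPullback.isKFlat_pullback j (KFlat.isKFlat_res P₁)) y)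
    exact ⟨A, inferInstance, j, inferInstance, n, hx,
      chart j J hJ P₀ hflat hω ((RDQ j P₀).symm ≪≫ (RD j).mapIso eP ≪≫ eω) n
        ((RDQ j J).symm ≪≫ (RD j).mapIso eJ ≪≫ e ≪≫
          (shiftFunctor _ n).mapIso ((RD j).mapIso eP.symm ≪≫ RDQ j P₀))⟩
  haveI hev : QuasiIso (ev P₀ J) := (Qis.quasiIso_iff_forall_stalk _).2 fun x => by
    obtain ⟨A, _, j, _, n, hx, h, -⟩ := key x
    exact DualPerfect.qisAt_of_restrict j _ h x hx
  haveI hL : DCoh.HasLTensorCx ((Hc P₀).obj J) := LeftExists.hasLTensorCx _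
  refine ⟨(Hc P₀).obj J, hL, fun x => ?_, ?_⟩
  · obtain ⟨A, _, j, _, n, hx, -, ⟨e⟩⟩ := key x
    exact ⟨j.opensRange, n, hx, DualSch.Invertible.exists_opens j e⟩
  · obtain ⟨t⟩ := QCohLocal.nonempty_LTensorCx_iso ((Hc P₀).obj J) (KFlat.isKFlat_res P₁)
    exact ⟨eJ.symm ≪≫ (asIso (DerivedCategory.Q.map (ev P₀ J))).symm ≪≫
      DerivedCategory.Q.mapIso (DualBidual.commCx ((Hc P₀).obj J) P₀) ≪≫ t.symm ≪≫
      (DCoh.LTensorCx _).mapIso eP⟩

end Groth.Agent.Lib.Biduality.Unique
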